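import Groth.Agent.Lib.FinPres16.QC
import Groth.Agent.Lib.ModFlat16.LocFT
import Mathlib.CategoryTheory.Abelian.Refinements
import Mathlib.Algebra.Homology.ShortComplex.Exact

/-! Modules presented by finite sums of `j_!O`. -/

set_option autoImplicit false
set_option linter.style.haveILetI false
set_option linter.unusedSectionVars false
set_option backward.isDefEq.respectTransparency false
set_option backward.isDefEq.respectTransparency.types false

universe u

open CategoryTheory CategoryTheory.Limits Opposite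

noncomputable section

namespace Groth.Agent.FinPres16

open ModFlat16 (freeOnHom freeOnHom_comp)

variable {C : Type u} [SmallCategory C] {J : GrothendieckTopology C} (O : Sheaf J CommRingCat.{u}) (B : Set C)

/-- A finite sum of `j_{U!}O_U` with `U` in `B`. -/
def BFree (P : ModSite.Mod O) : Prop :=
  ∃ (κ : Type) (_ : Finite κ) (U : κ → C), (∀ i, U i ∈ B) ∧ Nonempty (P ≅ ∐ fun i => ModSite.freeOn O (U i))

/-- A quotient of a finite sum. -/
def FG (M : ModSite.Mod O) : Prop :=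
  ∃ (P : ModSite.Mod O) (π : P ⟶ M), BFree O B P ∧ Epi π

/-- Presented by finite sums. -/
def FP (M : ModSite.Mod O) : Prop :=
  ∃ (P : ModSite.Mod O) (π : P ⟶ M), BFree O B P ∧ Epi π ∧ FG O B (kernel π)

/-- The shape in the statements. -/
def FPFin (M : ModSite.Mod O) : Prop :=
  ∃ (m n : ℕ) (V : Fin m → C) (U : Fin n → C)
    (ψ : (∐ fun j => ModSite.freeOn O (V j)) ⟶ ∐ fun i => ModSite.freeOn O (U i)),
    (∀ j, V j ∈ B) ∧ (∀ i, U i ∈ B) ∧ Nonempty (M ≅ cokernel ψ)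

variable {O B}

theorem bfree_sigma {κ : Type} [Finite κ] (U : κ → C) (hU : ∀ i, U i ∈ B) :
    BFree O B (∐ fun i => ModSite.freeOn O (U i)) := ⟨κ, inferInstance, U, hU, ⟨Iso.refl _⟩⟩

theorem BFree.exists_fin {P : ModSite.Mod O} (h : BFree O B P) :
    ∃ (n : ℕ) (U : Fin n → C), (∀ i, U i ∈ B) ∧ Nonempty (P ≅ ∐ fun i => ModSite.freeOn O (U i)) := by
  obtain ⟨κ, hκ, U, hU, ⟨e⟩⟩ := h
  obtain ⟨n, ⟨ε⟩⟩ := Finite.exists_equiv_fin κ
  exact ⟨n, fun i => U (ε.symm i), fun i => hU _,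
    ⟨e ≪≫ (Sigma.reindex ε.symm fun i => ModSite.freeOn O (U i)).symm⟩⟩

theorem BFree.fg {P : ModSite.Mod O} (h : BFree O B P) : FG O B P := ⟨P, 𝟙 P, h, inferInstance⟩

theorem FG.of_epi {M N : ModSite.Mod O} (h : FG O B M) (f : M ⟶ N) [Epi f] : FG O B N := by
  obtain ⟨P, π, hP, hπ⟩ := h
  exact ⟨P, π ≫ f, hP, inferInstance⟩

theorem FG.of_iso {M N : ModSite.Mod O} (h : FG O B M) (e : M ≅ N) : FG O B N := h.of_epi e.hom

theorem BFree.biprod {P Q : ModSite.Mod O} (hP : BFree O B P) (hQ : BFree O B Q) : BFree O B (P ⊞ Q) := by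
  obtain ⟨κ, hκ, U, hU, ⟨e⟩⟩ := hP
  obtain ⟨κ', hκ', U', hU', ⟨e'⟩⟩ := hQ
  refine ⟨κ ⊕ κ', inferInstance, Sum.elim U U', by rintro (i | i); exacts [hU i, hU' i], ⟨?_⟩⟩
  exact
    { hom := biprod.desc
        (e.hom ≫ Sigma.desc fun i => Sigma.ι (fun s => ModSite.freeOn O (Sum.elim U U' s)) (Sum.inl i))
        (e'.hom ≫ Sigma.desc fun i => Sigma.ι (fun s => ModSite.freeOn O (Sum.elim U U' s)) (Sum.inr i))
      inv := Sigma.desc fun s => match s with
        | Sum.inl i => Sigma.ι (fun i => ModSite.freeOn O (U i)) i ≫ e.inv ≫ biprod.inl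
        | Sum.inr i => Sigma.ι (fun i => ModSite.freeOn O (U' i)) i ≫ e'.inv ≫ biprod.inr
      hom_inv_id := by
        apply biprod.hom_ext'
        · simp only [biprod.inl_desc_assoc, Category.comp_id, Category.assoc]
          rw [← cancel_epi e.inv, Iso.inv_hom_id_assoc]
          exact Sigma.hom_ext _ _ fun i => by simp
        · simp only [biprod.inr_desc_assoc, Category.comp_id, Category.assoc]
          rw [← cancel_epi e'.inv, Iso.inv_hom_id_assoc]
          exact Sigma.hom_ext _ _ fun i => by simp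
      inv_hom_id := Sigma.hom_ext _ _ fun s => by
        rcases s with i | i <;> simp }

theorem FG.biprod {M N : ModSite.Mod O} (hM : FG O B M) (hN : FG O B N) : FG O B (M ⊞ N) := by
  obtain ⟨P, π, hP, hπ⟩ := hM
  obtain ⟨Q, q, hQ, hq⟩ := hN
  exact ⟨_, biprod.map π q, hP.biprod hQ, inferInstance⟩

theorem FP.fg {M : ModSite.Mod O} (h : FP O B M) : FG O B M := by
  obtain ⟨P, π, hP, hπ, -⟩ := h
  exact ⟨P, π, hP, hπ⟩

theorem fp_of_fin {M : ModSite.Mod O} (h : FPFin O B M) : FP O B M := by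
  obtain ⟨m, n, V, U, ψ, hV, hU, ⟨e⟩⟩ := h
  refine ⟨_, cokernel.π ψ ≫ e.inv, bfree_sigma U hU, inferInstance, ?_⟩
  have h : FG O B (kernel (cokernel.π ψ)) :=
    (bfree_sigma (O := O) V hV).fg.of_epi (Abelian.factorThruImage ψ)
  exact h.of_iso (kernelCompMono (cokernel.π ψ) e.inv).symm

theorem fin_of_fp {M : ModSite.Mod O} (h : FP O B M) : FPFin O B M := by
  obtain ⟨P, π, hP, hπ, R, r, hR, hr⟩ := h
  obtain ⟨n, U, hU, ⟨e⟩⟩ := hP.exists_fin
  obtain ⟨m, V, hV, ⟨e'⟩⟩ := hR.exists_fin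
  refine ⟨m, n, V, U, e'.inv ≫ r ≫ kernel.ι π ≫ e.hom, hV, hU, ⟨?_⟩⟩
  let ψ' : R ⟶ P := r ≫ kernel.ι π
  have hc : IsColimit (CokernelCofork.ofπ π (show ψ' ≫ π = 0 by simp [ψ'])) :=
    isCokernelEpiComp (Abelian.epiIsCokernelOfKernel _ (kernelIsKernel π)) r rfl
  exact (hc.coconePointUniqueUpToIso (cokernelIsCokernel ψ')) ≪≫
    cokernel.mapIso ψ' _ e' e (by simp [ψ'])

/-! ### Elements -/

/-- The generator. -/
def gen (U : C) : ModSite.sect (ModSite.freeOn O U) U := freeOnHom O U _ (𝟙 _)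

/-- The map attached to an arrow. -/
def freeMap {W U : C} (l : W ⟶ U) : ModSite.freeOn O W ⟶ ModSite.freeOn O U :=
  (freeOnHom O W _).symm (ModFlat16.smap (ModSite.freeOn O U) l (gen U))

theorem app_gen {U : C} {N : ModSite.Mod O} (h : ModSite.freeOn O U ⟶ N) :
    h.val.app (op U) (gen U) = freeOnHom O U N h := by
  rw [gen, ← freeOnHom_comp, Category.id_comp]

theorem freeOnHom_freeMap {W U : C} (l : W ⟶ U) {N : ModSite.Mod O} (h : ModSite.freeOn O U ⟶ N) :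
    freeOnHom O W N (freeMap l ≫ h) = ModFlat16.smap N l (freeOnHom O U N h) := by
  rw [freeOnHom_comp, freeMap, Equiv.apply_symm_apply, ModFlat16.app_smap, app_gen]

theorem eq_of_cover {U : C} {κ : Type u} {W : κ → C} (b : ∀ k, W k ⟶ U) (hb : Sieve.ofArrows W b ∈ J U)
    {N : ModSite.Mod O} (h h' : ModSite.freeOn O U ⟶ N) (e : ∀ k, freeMap (b k) ≫ h = freeMap (b k) ≫ h') :
    h = h' := by
  apply (freeOnHom O U N).injective
  rw [← sub_eq_zero]
  refine ExtSupp8.sect_eq_zero_of_locally O N _ _ hb fun V g hg => ?_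
  obtain ⟨Y, a, _, ⟨k⟩, rfl⟩ := hg
  refine Eq.trans (ModFlat16.smap_comp (F := N) (b k) a _) ?_
  rw [map_sub, ← freeOnHom_freeMap, ← freeOnHom_freeMap, e, sub_self, map_zero]

variable (hB₁ : ∀ X : C, ∃ (κ : Type u) (Y : κ → C) (g : ∀ k, Y k ⟶ X), Sieve.ofArrows Y g ∈ J X ∧ ∀ k, Y k ∈ B)

include hB₁ in
/-- Covers of quasi-compact objects refine to finite covers by members of `B`. -/
theorem exists_finite_B_cover {U : C} (hU : CohCx.IsQcObject ((presheafToSheaf J (Type u)).obj (yoneda.obj U)))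
    {S : Sieve U} (hS : S ∈ J U) :
    ∃ (κ : Type) (_ : Finite κ) (Y : κ → C) (b : ∀ k, Y k ⟶ U),
      (∀ k, Y k ∈ B) ∧ (∀ k, S (b k)) ∧ Sieve.ofArrows Y b ∈ J U := by
  choose κ' Y' g' hcov hY' using hB₁
  obtain ⟨κ, hκ, W, l, hl, hcover⟩ := exists_finite_cover_of_isQcObject hU
    (J.bind_covering hS fun V _ _ => hcov V)
  have h : ∀ k, ∃ (Z : C) (a : W k ⟶ Z) (b : Z ⟶ U), Z ∈ B ∧ S b ∧ a ≫ b = l k := fun k => by
    obtain ⟨V, a, f, hf, ⟨Y, a', _, ⟨i⟩, rfl⟩, e⟩ := hl k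
    exact ⟨_, a', g' V i ≫ f, hY' V i, S.downward_closed hf _, by rw [← Category.assoc]; exact e⟩
  choose Z a b hZ hb hab using h
  let ε := Fintype.equivFin κ
  refine ⟨Fin (Fintype.card κ), inferInstance, fun i => Z (ε.symm i), fun i => b (ε.symm i), fun i => hZ _,
    fun i => hb _, J.superset_covering ?_ hcover⟩
  rw [Sieve.ofArrows, Sieve.generate_le_iff]
  rintro V _ ⟨k⟩
  obtain ⟨i, rfl⟩ := ε.symm.surjective k
  exact ⟨_, a _, _, ⟨i⟩, hab _⟩

variable (hB₂ : ∀ U ∈ B, CohCx.IsQcObject ((presheafToSheaf J (Type u)).obj (yoneda.obj U)))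

/-- A finite refinement of a finite sum. -/
structure Refinement {κ : Type} (U : κ → C) where
  idx : κ → Type
  fin : ∀ k, Finite (idx k)
  Y : ∀ k, idx k → C
  mem : ∀ k i, Y k i ∈ B
  b : ∀ k i, Y k i ⟶ U k
  cover : ∀ k, Sieve.ofArrows (Y k) (b k) ∈ J (U k)

variable {κ : Type} [Finite κ] {U : κ → C} (R : Refinement (J := J) (B := B) U)

/-- The source of a refinement. -/
abbrev Refinement.src : ModSite.Mod O := ∐ fun q : Σ k, R.idx k => ModSite.freeOn O (R.Y q.1 q.2)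

/-- The map of a refinement. -/
abbrev Refinement.π : R.src (O := O) ⟶ ∐ fun k => ModSite.freeOn O (U k) :=
  Sigma.desc fun q => freeMap (R.b q.1 q.2) ≫ Sigma.ι (fun k => ModSite.freeOn O (U k)) q.1

theorem Refinement.bfree : BFree O B (R.src (O := O)) :=
  haveI := R.fin
  bfree_sigma _ fun q => R.mem q.1 q.2

theorem Refinement.epi : Epi (R.π (O := O)) := by
  refine ⟨fun {Z} h h' e => Sigma.hom_ext _ _ fun k => ?_⟩
  haveI := R.fin k
  obtain ⟨n, ⟨ε⟩⟩ := Finite.exists_equiv_fin (R.idx k)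
  refine eq_of_cover (κ := ULift.{u} (Fin n)) (fun i => R.b k (ε.symm i.down)) ?_ _ _ fun i => ?_
  · refine J.superset_covering ?_ (R.cover k)
    rw [Sieve.ofArrows, Sieve.generate_le_iff]
    rintro V _ ⟨j⟩
    obtain ⟨i, rfl⟩ := ε.symm.surjective j
    exact Sieve.ofArrows_mk _ _ (ULift.up i)
  · have := congrArg (fun t => Sigma.ι (fun q : Σ k, R.idx k => ModSite.freeOn O (R.Y q.1 q.2)) ⟨k, ε.symm i.down⟩ ≫ t) e
    simpa using this

include hB₁ hB₂ in
theorem exists_lift_refinement {κ : Type} [Finite κ] {U : κ → C} (hU : ∀ k, U k ∈ B) {M N : ModSite.Mod O}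
    (p : M ⟶ N) [Epi p] (h : (∐ fun k => ModSite.freeOn O (U k)) ⟶ N) :
    ∃ (R : Refinement (J := J) (B := B) U) (g : R.src (O := O) ⟶ M), g ≫ p = R.π ≫ h := by
  choose S hS hS' using fun k => ExtSupp8.exists_local_preimage p
    (freeOnHom O (U k) N (Sigma.ι (fun k => ModSite.freeOn O (U k)) k ≫ h))
  choose idx fin Y b hY hb hcov using fun k => exists_finite_B_cover hB₁ (hB₂ _ (hU k)) (hS k)
  choose a ha using fun (q : Σ k, idx k) => hS' q.1 _ (hb q.1 q.2)
  refine ⟨⟨idx, fin, Y, hY, b, hcov⟩, Sigma.desc fun q => (freeOnHom O _ M).symm (a q),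
    Sigma.hom_ext _ _ fun q => ?_⟩
  apply (freeOnHom O _ N).injective
  simp only [colimit.ι_desc_assoc, Cofan.mk_ι_app, Cofan.mk_pt, Category.assoc]
  rw [freeOnHom_comp, Equiv.apply_symm_apply, freeOnHom_freeMap]
  exact ha q

/-! ### Kernels -/

include hB₁ hB₂ in
/-- Extensions of finitely generated modules. -/
theorem FG.ext {K₁ K K₂ : ModSite.Mod O} (i : K₁ ⟶ K) (r : K ⟶ K₂) (w : i ≫ r = 0) [Epi r]
    (hexact : Epi (kernel.lift r i w)) (h₁ : FG O B K₁) (h₂ : FG O B K₂) : FG O B K := by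
  obtain ⟨P₁, π₁, hP₁, hπ₁⟩ := h₁
  obtain ⟨P₂, π₂, ⟨κ, hκ, U, hU, ⟨e⟩⟩, hπ₂⟩ := h₂
  obtain ⟨R, g, hg⟩ := exists_lift_refinement hB₁ hB₂ hU r (e.inv ≫ π₂)
  haveI := R.epi (O := O)
  refine ⟨P₁ ⊞ R.src, biprod.desc (π₁ ≫ i) g, hP₁.biprod R.bfree, Preadditive.epi_of_cancel_zero _ fun {Z} h hh => ?_⟩
  have h1 : (π₁ ≫ i) ≫ h = 0 := by
    have := biprod.inl ≫= hh; simpa using this
  have h2 : g ≫ h = 0 := by
    have := biprod.inr ≫= hh; simpa using this
  have h3 : kernel.ι r ≫ h = 0 := by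
    rw [← cancel_epi (kernel.lift r i w), ← Category.assoc, kernel.lift_ι, comp_zero, ← cancel_epi π₁,
      ← Category.assoc, h1, comp_zero]
  obtain ⟨h', rfl⟩ := CokernelCofork.IsColimit.desc' (Abelian.epiIsCokernelOfKernel _ (kernelIsKernel r)) h h3
  simp only [Cofork.π_ofπ] at h2 ⊢
  rw [← Category.assoc, hg] at h2
  rw [(cancel_epi (R.π (O := O) ≫ e.inv ≫ π₂)).1 (show (R.π ≫ e.inv ≫ π₂) ≫ h' = _ ≫ 0 by rw [comp_zero]; exact h2),
    comp_zero]

include hB₁ hB₂ in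
theorem FG.kernel_comp {A M N : ModSite.Mod O} (f : A ⟶ M) [Epi f] (g : M ⟶ N) (h₁ : FG O B (kernel f))
    (h₂ : FG O B (kernel g)) : FG O B (kernel (f ≫ g)) := by
  let i : kernel f ⟶ kernel (f ≫ g) := kernel.lift _ (kernel.ι f) (by simp)
  let r : kernel (f ≫ g) ⟶ kernel g := kernel.lift _ (kernel.ι (f ≫ g) ≫ f) (by simp)
  have w : i ≫ r = 0 := by
    apply equalizer.hom_ext
    simp [i, r]
  haveI : Epi r := (epi_iff_surjective_up_to_refinements r).2 fun T y => by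
    obtain ⟨T', t, ht, x, hx⟩ := surjective_up_to_refinements_of_epi f (y ≫ kernel.ι g)
    refine ⟨T', t, ht, kernel.lift (f ≫ g) x (by rw [← Category.assoc, ← hx]; simp), ?_⟩
    apply equalizer.hom_ext
    simpa [r] using hx
  refine FG.ext hB₁ hB₂ i r w ?_ h₁ h₂
  haveI : IsIso (kernel.lift r i w) := by
    refine ⟨kernel.lift f (kernel.ι r ≫ kernel.ι (f ≫ g)) ?_, ?_, ?_⟩
    · have := kernel.condition r =≫ kernel.ι g
      simp only [r, Category.assoc, kernel.lift_ι, zero_comp] at this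
      simpa only [Category.assoc] using this
    · apply equalizer.hom_ext; simp [i]
    · apply equalizer.hom_ext; apply equalizer.hom_ext; simp [i]
  infer_instance

include hB₁ hB₂ in
theorem fpFin_cokernel {M N : ModSite.Mod O} (α : M ⟶ N) (hM : FP O B M) (hN : FP O B N) :
    FPFin O B (cokernel α) := by
  obtain ⟨P, π, hP, hπ, hK⟩ := hN
  refine fin_of_fp ⟨P, π ≫ cokernel.π α, hP, inferInstance, FG.kernel_comp hB₁ hB₂ π _ hK ?_⟩
  exact hM.fg.of_epi (Abelian.factorThruImage α)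

end Groth.Agent.FinPres16
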