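import Groth.Agent.Lib.FinPres16.Colim
import Groth.Agent.Lib.FinPres16.Basic
import Mathlib.CategoryTheory.Limits.Constructions.Filtered
import Mathlib.CategoryTheory.Sites.Spaces
import Mathlib.Algebra.BigOperators.Finprod
import Mathlib.CategoryTheory.Preadditive.Yoneda.Basic

/-! Sections of direct sums over quasi-compact objects. -/

set_option autoImplicit false
set_option linter.style.haveILetI false
set_option linter.unusedSectionVars false
set_option backward.isDefEq.respectTransparency false
set_option backward.isDefEq.respectTransparency.types false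

universe u

open CategoryTheory CategoryTheory.Limits Opposite

noncomputable section

namespace Groth.Agent.FinPres16

open ModFlat16 (smap app_smap freeOnHom freeOnHom_comp)

variable {C : Type u} [SmallCategory C] {J : GrothendieckTopology C} {O : Sheaf J CommRingCat.{u}}
  {ι : Type u} (F : ι → ModSite.Mod O) [HasCoproduct F]

/-- The projection of a coproduct of modules. -/
def coprodProj (i : ι) : ∐ F ⟶ F i := by
  classical
  exact Sigma.desc fun j => if h : j = i then eqToHom (congrArg F h) else 0

theorem ι_coprodProj_self (i : ι) : Sigma.ι F i ≫ coprodProj F i = 𝟙 (F i) := by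
  classical
  simp [coprodProj]

theorem ι_coprodProj_ne {i j : ι} (h : j ≠ i) : Sigma.ι F j ≫ coprodProj F i = 0 := by
  classical
  simp [coprodProj, h]

theorem proj_comb {V : C} [DecidableEq ι] (S : Finset ι) (t : ∀ i, ModSite.sect (F i) V) (j : ι) :
    (coprodProj F j).val.app (op V) (∑ i ∈ S, (Sigma.ι F i).val.app (op V) (t i)) = if j ∈ S then t j else 0 := by
  rw [map_sum]
  have h : ∀ i, (coprodProj F j).val.app (op V) ((Sigma.ι F i).val.app (op V) (t i)) = if i = j then t j else 0 := by
    intro i
    show (Sigma.ι F i ≫ coprodProj F j).val.app (op V) (t i) = _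
    by_cases hij : i = j
    · subst hij
      rw [ι_coprodProj_self, if_pos rfl]
      rfl
    · rw [ι_coprodProj_ne F hij, if_neg hij]
      rfl
  rw [Finset.sum_congr rfl fun i _ => h i, Finset.sum_ite_eq']

theorem local_finite_sum {W : C} (x : ModSite.sect (∐ F) W) :
    ∃ T ∈ J W, ∀ ⦃V : C⦄ (g : V ⟶ W), T g →
      ∃ (S : Finset ι) (t : ∀ i, ModSite.sect (F i) V), smap (∐ F) g x = ∑ i ∈ S, (Sigma.ι F i).val.app (op V) (t i) := by
  classical
  haveI : HasFiniteCoproducts (ModSite.Mod O) := inferInstance
  obtain ⟨T, hT, h⟩ := exists_stage_rep_mod (CoproductsFromFiniteFiltered.isColimitFiniteSubproductsCocone F) (U := W) x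
  refine ⟨T, hT, fun V g hg => ?_⟩
  obtain ⟨S, z, hz⟩ := h g hg
  let K := fun s : S => (Discrete.functor F).obj s.1
  have hid : ∀ y : ModSite.sect (∐ K) V, y = ∑ s : S, (Sigma.ι K s).val.app (op V) ((coprodProj K s).val.app (op V) y) := by
    intro y
    have h1 : (∑ s : S, coprodProj K s ≫ Sigma.ι K s) = 𝟙 (∐ K) := Sigma.hom_ext _ _ fun t => by
      rw [Preadditive.comp_sum, Finset.sum_eq_single t, ← Category.assoc, ι_coprodProj_self, Category.id_comp,
        Category.comp_id]
      · intro s _ hs
        rw [← Category.assoc, ι_coprodProj_ne K (Ne.symm hs), zero_comp]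
      · simp
    have h2 : ∀ S' : Finset S, (∑ s ∈ S', coprodProj K s ≫ Sigma.ι K s).val.app (op V) y =
        ∑ s ∈ S', (Sigma.ι K s).val.app (op V) ((coprodProj K s).val.app (op V) y) := fun S' => by
      induction S' using Finset.induction_on with
      | empty => rfl
      | @insert i S' hi ih => rw [Finset.sum_insert hi, Finset.sum_insert hi, ← ih]; rfl
    exact ((congrArg (fun q : ∐ K ⟶ ∐ K => q.val.app (op V) y) h1).symm.trans (h2 Finset.univ))
  refine ⟨S.image Discrete.as, fun i => if h : Discrete.mk i ∈ S then (coprodProj K ⟨_, h⟩).val.app (op V) z else 0, ?_⟩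
  refine hz.symm.trans ?_
  rw [Finset.sum_image (fun a _ b _ h => Discrete.ext h), ← Finset.sum_coe_sort S]
  refine (congrArg (fun w => ((CoproductsFromFiniteFiltered.finiteSubcoproductsCocone F).ι.app S).val.app (op V) w)
    (hid z)).trans ((map_sum _ _ _).trans (Finset.sum_congr rfl fun s _ => ?_))
  refine (congrArg (fun q : K s ⟶ ∐ F => q.val.app (op V) ((coprodProj K s).val.app (op V) z))
    (Sigma.ι_desc (f := K) (fun s => Sigma.ι F s.1.as) s)).trans ?_
  refine congrArg (fun w => (Sigma.ι F s.1.as).val.app (op V) w) ?_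
  symm
  exact dif_pos (show Discrete.mk s.1.as ∈ S from s.2)

/-- Every cover of the object has a finite subcover. -/
def QcAt (J : GrothendieckTopology C) (W : C) : Prop :=
  ∀ S ∈ J W, ∃ (κ : Type u) (_ : Fintype κ) (Y : κ → C) (l : ∀ k, Y k ⟶ W), (∀ k, S (l k)) ∧ Sieve.ofArrows Y l ∈ J W

theorem exists_finite_sum {W : C} (hW : QcAt J W) (x : ModSite.sect (∐ F) W) :
    ∃ S : Finset ι, (∀ j, j ∉ S → (coprodProj F j).val.app (op W) x = 0) ∧
      x = ∑ i ∈ S, (Sigma.ι F i).val.app (op W) ((coprodProj F i).val.app (op W) x) := by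
  classical
  obtain ⟨T, hT, h⟩ := local_finite_sum F x
  obtain ⟨κ, hκ, Y, l, hl, hcov⟩ := hW T hT
  choose S t hS using fun k => h (l k) (hl k)
  let S₀ := Finset.univ.biUnion S
  have hproj : ∀ k j, smap (F j) (l k) ((coprodProj F j).val.app (op W) x) = if j ∈ S k then t k j else 0 := fun k j => by
    rw [← app_smap, hS k, proj_comb]
  have hzero : ∀ j, j ∉ S₀ → (coprodProj F j).val.app (op W) x = 0 := fun j hj => by
    refine ExtSupp8.sect_eq_zero_of_locally O (F j) _ _ hcov fun V g hg => ?_
    obtain ⟨_, a, _, ⟨k⟩, rfl⟩ := hg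
    refine (ModFlat16.smap_comp (F := F j) (l k) a _).trans ?_
    rw [hproj, if_neg fun h' => hj (Finset.mem_biUnion.2 ⟨k, Finset.mem_univ _, h'⟩), map_zero]
  refine ⟨S₀, hzero, sub_eq_zero.1 ?_⟩
  refine ExtSupp8.sect_eq_zero_of_locally O (∐ F) _ _ hcov fun V g hg => ?_
  obtain ⟨_, a, _, ⟨k⟩, rfl⟩ := hg
  refine (ModFlat16.smap_comp (F := ∐ F) (l k) a _).trans ?_
  have hx' : smap (∐ F) (l k) x =
      smap (∐ F) (l k) (∑ i ∈ S₀, (Sigma.ι F i).val.app (op W) ((coprodProj F i).val.app (op W) x)) := by
    rw [hS k]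
    refine Eq.trans ?_ (map_sum (smap (∐ F) (l k)) _ _).symm
    rw [← Finset.sum_subset (Finset.subset_biUnion_of_mem S (Finset.mem_univ k)) fun i _ hi => ?_]
    · refine Finset.sum_congr rfl fun i hi => ?_
      rw [← app_smap (Sigma.ι F i), hproj, if_pos hi]
    · rw [← app_smap (Sigma.ι F i), hproj, if_neg hi, map_zero]
  rw [map_sub, hx', sub_self, map_zero]

theorem isColimit_sections {W : C} (hW : QcAt J W) :
    Nonempty (IsColimit (Cofan.mk _ fun i =>
      (SheafOfModules.toSheaf (ModSite.ringSh O) ⋙ (sheafSections J AddCommGrpCat.{u}).obj (op W)).map (Sigma.ι F i))) := by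
  classical
  let G := SheafOfModules.toSheaf (ModSite.ringSh O) ⋙ (sheafSections J AddCommGrpCat.{u}).obj (op W)
  have hfin : ∀ (x : ModSite.sect (∐ F) W) (Z : AddCommGrpCat.{u}) (t : ∀ i, G.obj (F i) ⟶ Z),
      (Function.support fun i => (t i).hom ((coprodProj F i).val.app (op W) x)).Finite := fun x Z t => by
    obtain ⟨S, hS, -⟩ := exists_finite_sum F hW x
    refine S.finite_toSet.subset fun i hi => ?_
    by_contra h
    exact hi (by
      show (t i).hom ((coprodProj F i).val.app (op W) x) = 0
      rw [hS i h]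
      exact map_zero (t i).hom)
  refine ⟨mkCofanColimit _ (fun s => AddCommGrpCat.ofHom (AddMonoidHom.mk'
    (fun x : ModSite.sect (∐ F) W => ∑ᶠ i, (s.inj i).hom ((coprodProj F i).val.app (op W) x)) fun x y => by
      rw [← finsum_add_distrib (hfin x s.pt s.inj) (hfin y s.pt s.inj)]
      refine finsum_congr fun i => ?_
      rw [map_add]
      exact map_add (s.inj i).hom _ _))
    (fun s j => AddCommGrpCat.hom_ext (AddMonoidHom.ext fun y => ?_))
    (fun s m hm => AddCommGrpCat.hom_ext (AddMonoidHom.ext fun x => ?_))⟩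
  · show (∑ᶠ i, (s.inj i).hom ((coprodProj F i).val.app (op W) ((Sigma.ι F j).val.app (op W) y))) = (s.inj j).hom y
    rw [finsum_eq_single _ j]
    · show (s.inj j).hom ((Sigma.ι F j ≫ coprodProj F j).val.app (op W) y) = _
      rw [ι_coprodProj_self]
      rfl
    · intro i hi
      show (s.inj i).hom ((Sigma.ι F j ≫ coprodProj F i).val.app (op W) y) = _
      rw [ι_coprodProj_ne F (Ne.symm hi)]
      exact map_zero (s.inj i).hom
  · obtain ⟨S, hS, hx⟩ := exists_finite_sum F hW (x : ModSite.sect (∐ F) W)
    show m.hom x = ∑ᶠ i, (s.inj i).hom ((coprodProj F i).val.app (op W) (x : ModSite.sect (∐ F) W))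
    rw [finsum_eq_sum_of_support_subset _ (s := S) fun i hi => by
      by_contra h
      exact hi (by
        show (s.inj i).hom ((coprodProj F i).val.app (op W) (x : ModSite.sect (∐ F) W)) = 0
        rw [hS i h]
        exact map_zero (s.inj i).hom)]
    refine (congrArg (fun w => m.hom w) hx).trans ((map_sum m.hom _ _).trans (Finset.sum_congr rfl fun i _ => ?_))
    exact congrArg (fun q => q.hom ((coprodProj F i).val.app (op W) (x : ModSite.sect (∐ F) W))) (hm i)

theorem qcAt_of_isQcObject {W : C} (hW : CohCx.IsQcObject ((presheafToSheaf J (Type u)).obj (yoneda.obj W))) :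
    QcAt J W := fun _ hS => exists_finite_cover_of_isQcObject hW hS

theorem preservesCoproducts_sections (O : Sheaf J CommRingCat.{u}) {W : C} (hW : QcAt J W) (ι : Type u) :
    PreservesColimitsOfShape (Discrete ι)
      (SheafOfModules.toSheaf (ModSite.ringSh O) ⋙ (sheafSections J AddCommGrpCat.{u}).obj (op W)) := by
  let G := SheafOfModules.toSheaf (ModSite.ringSh O) ⋙ (sheafSections J AddCommGrpCat.{u}).obj (op W)
  haveI : ∀ F : ι → ModSite.Mod O, PreservesColimit (Discrete.functor F) G := fun F =>
    preservesColimit_of_preserves_colimit_cocone (coproductIsCoproduct F)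
      ((isColimitMapCoconeCofanMkEquiv G F _).symm (isColimit_sections F hW).some)
  exact ⟨fun {K} => preservesColimit_of_iso_diagram G (Discrete.natIsoFunctor (F := K)).symm⟩

theorem preservesCoproducts_hom_freeOn (O : Sheaf J CommRingCat.{u}) {U : C} (hU : QcAt J U) (ι : Type u) :
    PreservesColimitsOfShape (Discrete ι) (preadditiveCoyoneda.obj (op (ModSite.freeOn O U))) := by
  haveI := preservesCoproducts_sections O hU ι
  refine preservesColimitsOfShape_of_natIso (NatIso.ofComponents (fun M => AddEquiv.toAddCommGrpIso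
    { (freeOnHom O U M).symm with
      map_add' := fun a b => (freeOnHom O U M).injective (by
        show freeOnHom O U M ((freeOnHom O U M).symm (a + b)) = _
        rw [Equiv.apply_symm_apply, ← app_gen]
        show _ = ((freeOnHom O U M).symm a).val.app (op U) (gen U) + ((freeOnHom O U M).symm b).val.app (op U) (gen U)
        rw [app_gen, app_gen, Equiv.apply_symm_apply, Equiv.apply_symm_apply]) }) fun {M N} f => AddCommGrpCat.hom_ext (AddMonoidHom.ext fun a => ?_) :
      SheafOfModules.toSheaf (ModSite.ringSh O) ⋙ (sheafSections J AddCommGrpCat.{u}).obj (op U) ≅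
        preadditiveCoyoneda.obj (op (ModSite.freeOn O U)))
  apply (freeOnHom O U N).injective
  show freeOnHom O U N ((freeOnHom O U N).symm (f.val.app (op U) a)) = freeOnHom O U N ((freeOnHom O U M).symm a ≫ f)
  rw [Equiv.apply_symm_apply, freeOnHom_comp, Equiv.apply_symm_apply]

end Groth.Agent.FinPres16
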