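import Groth.Agent.Lib.FinPres16.HomSheaf

/-! The internal hom out of a finitely presented module commutes with filtered colimits. -/

set_option autoImplicit false
set_option linter.style.haveILetI false
set_option linter.unusedSectionVars false
set_option backward.isDefEq.respectTransparency false
set_option backward.isDefEq.respectTransparency.types false

universe u

open CategoryTheory CategoryTheory.Limits Opposite

noncomputable section

namespace Groth.Agent.FinPres16

open ModFlat16

variable {C : Type u} [SmallCategory C] {J : GrothendieckTopology C} {O : Sheaf J CommRingCat.{u}}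
  {M N : ModSite.Mod O} [ModSite.HasSheafHom M]
  {Λ : Type u} [SmallCategory Λ] [IsFiltered Λ] {D : Λ ⥤ ModSite.Mod O} {c : Cocone D} (hc : IsColimit c)

theorem hval_comb {V : C} (z : ModSite.sect ((ModSite.sheafHom M).obj N) V) {ι : Type u} [Fintype ι]
    (d : ι → O.obj.obj (op V)) (s : ι → ModSite.sect M V) :
    hval z (∑ i, d i • s i) = ∑ i, d i • hval z (s i) := by
  classical
  suffices H : ∀ S : Finset ι, hval z (∑ i ∈ S, d i • s i) = ∑ i ∈ S, d i • hval z (s i) from H Finset.univ
  intro S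
  induction S using Finset.induction_on with
  | empty =>
    have h := hval_add z (0 : ModSite.sect M V) 0
    rw [add_zero] at h
    simpa using h
  | @insert i S hi ih => rw [Finset.sum_insert hi, Finset.sum_insert hi, hval_add, hval_smul, ih]

theorem hval_smap' {V V' W : C} (m : V' ⟶ V) (g : V ⟶ W) (z : ModSite.sect ((ModSite.sheafHom M).obj N) W)
    (s : ModSite.sect M V) :
    hval (Groth.Agent.ModFlat16.smap ((ModSite.sheafHom M).obj N) (m ≫ g) z) (Groth.Agent.ModFlat16.smap M m s) =
      Groth.Agent.ModFlat16.smap N m (hval (Groth.Agent.ModFlat16.smap ((ModSite.sheafHom M).obj N) g z) s) := by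
  rw [smap_comp, hval_smap]

theorem hval_eq_of_gens {U V : C} {ι : Type u} [Fintype ι] {s : ι → ModSite.sect M U} (hs : Gens M U s)
    (z z' : ModSite.sect ((ModSite.sheafHom M).obj N) U)
    (h : ∀ i, hval z (s i) = hval z' (s i)) (u : V ⟶ U) (x : ModSite.sect M V) :
    hval (Groth.Agent.ModFlat16.smap ((ModSite.sheafHom M).obj N) u z) x =
      hval (Groth.Agent.ModFlat16.smap ((ModSite.sheafHom M).obj N) u z') x := by
  obtain ⟨S, hS, hx⟩ := gens_apply hs u x
  refine eq_of_locally _ _ S hS fun W l hl => ?_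
  obtain ⟨d, hd⟩ := hx l hl
  rw [← hval_smap', ← hval_smap', hd, hval_comb, hval_comb]
  refine Finset.sum_congr rfl fun i _ => congrArg (d i • ·) ?_
  rw [hval_smap, hval_smap, h]

theorem hval_zero_map {V : C} (s : ModSite.sect M V) {U : C} (g : V ⟶ U) :
    hval (Groth.Agent.ModFlat16.smap ((ModSite.sheafHom M).obj N) g (0 : ModSite.sect ((ModSite.sheafHom M).obj N) U)) s = 0 := by
  rw [map_zero, hval_zero_left]

include hc in
theorem epi_comparison [SheafOfModules.IsFinitePresentation (R := ModSite.ringSh O) M] :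
    Epi (colimit.desc (D ⋙ ModSite.sheafHom M) ((ModSite.sheafHom M).mapCocone c)) := by
  refine epi_of_local_preimages _ fun W z => ?_
  obtain ⟨T₀, hT₀, hT₀'⟩ := covd_hasPres (M := M) W
  refine bind_cover T₀ hT₀ fun U g hg => ?_
  obtain ⟨ι, κ, hι, hκ, s, R, hs, hR⟩ := hT₀' g hg
  let zU := Groth.Agent.ModFlat16.smap ((ModSite.sheafHom M).obj c.pt) g z
  obtain ⟨T, hT, h⟩ := exists_stage_sections hc (fun i => hval zU (s i))
  refine bind_cover (Q := fun U' m => ∃ y, (colimit.desc (D ⋙ ModSite.sheafHom M) ((ModSite.sheafHom M).mapCocone c)).val.app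
    (op U') y = Groth.Agent.ModFlat16.smap ((ModSite.sheafHom M).obj c.pt) (m ≫ g) z) T hT fun U' m hm => ?_
  obtain ⟨l, t, ht⟩ := h m hm
  have hs' := gens_smap m hs
  have hR' := rels_smap m hR
  have hz : ∀ r, (c.ι.app l).val.app (op U') (∑ i, rmap O m (R r i) • t i) = (c.ι.app l).val.app (op U') 0 := fun r => by
    rw [map_zero, app_comb]
    simp only [ht, ← hval_smap]
    rw [← hval_comb]
    refine (congrArg (fun q => hval (Groth.Agent.ModFlat16.smap ((ModSite.sheafHom M).obj c.pt) m zU) q) (hR'.1 r)).trans ?_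
    have h0 := hval_add (Groth.Agent.ModFlat16.smap ((ModSite.sheafHom M).obj c.pt) m zU) (0 : ModSite.sect M U') 0
    rwa [add_zero, eq_comm, add_eq_left] at h0
  obtain ⟨T', hT', h'⟩ := exists_stage_kills hc (fun r => ∑ i, rmap O m (R r i) • t i) (fun _ => 0) hz
  refine ⟨T', hT', fun U'' m' hm' => ?_⟩
  obtain ⟨k, f, hf⟩ := h' m' hm'
  obtain ⟨ψ, hψ⟩ := exists_hom_of_pres (gens_smap m' hs') (rels_smap m' hR')
    (fun i => (D.map f).val.app (op U'') (Groth.Agent.ModFlat16.smap (D.obj l) m' (t i))) (fun r => by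
      have := hf r
      rw [map_zero, map_zero, smap_comb, app_comb] at this
      exact this)
  obtain ⟨y, hy⟩ := exists_hval ψ
  refine ⟨(colimit.ι (D ⋙ ModSite.sheafHom M) k).val.app (op U'') y, ?_⟩
  refine (map_app_comp _ _ _).symm.trans ?_
  rw [colimit.ι_desc]
  refine hval_ext _ _ fun {V} u x => ?_
  show hval (Groth.Agent.ModFlat16.smap _ u (((ModSite.sheafHom M).map (c.ι.app k)).val.app (op U'') y)) x = _
  refine (congrArg (fun q => hval q x) (app_smap ((ModSite.sheafHom M).map (c.ι.app k)) u y).symm).trans ?_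
  rw [hval_map, hy]
  obtain ⟨S, hS, hx⟩ := gens_apply (gens_smap m' hs') u x
  refine eq_of_locally _ _ S hS fun V' n hn => ?_
  obtain ⟨d, hd⟩ := hx n hn
  rw [← app_smap (c.ι.app k) n, ← onSlice_smap]
  refine Eq.trans ?_ (hval_smap' (N := c.pt) n u (Groth.Agent.ModFlat16.smap ((ModSite.sheafHom M).obj c.pt) ((m' ≫ m) ≫ g) z) x)
  rw [← smap_comp, hd, hval_comb]
  refine Eq.trans (congrArg (fun w => (c.ι.app k).val.app (op V') w)
    ((map_sum (ψ.val.app (op (Over.mk (n ≫ u)))).hom _ _).trans (Finset.sum_congr rfl fun i _ =>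
      ((ψ.val.app (op (Over.mk (n ≫ u)))).hom.map_smul (d i) _).trans (congrArg (d i • ·) (hψ i (n ≫ u)))))) ?_
  rw [app_comb]
  refine Finset.sum_congr rfl fun i _ => congrArg (d i • ·) ?_
  rw [app_smap, ← map_app_comp, c.w, app_smap]
  refine (congrArg (fun w => Groth.Agent.ModFlat16.smap c.pt (n ≫ u) (Groth.Agent.ModFlat16.smap c.pt m' w)) (ht i)).trans ?_
  rw [← smap_comp, ← smap_comp, ← hval_smap]
  simp only [zU, ← smap_comp, Category.assoc]

include hc in
theorem mono_comparison [SheafOfModules.IsFiniteType (R := ModSite.ringSh O) M] :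
    Mono (colimit.desc (D ⋙ ModSite.sheafHom M) ((ModSite.sheafHom M).mapCocone c)) := by
  let κ := colimit.desc (D ⋙ ModSite.sheafHom M) ((ModSite.sheafHom M).mapCocone c)
  refine mono_of_injective κ fun W a b hab => sub_eq_zero.1 ?_
  have h0 : κ.val.app (op W) (a - b) = 0 := by rw [map_sub]; exact sub_eq_zero.2 hab
  obtain ⟨T₁, hT₁, h₁⟩ := exists_stage_rep_mod (colimit.isColimit (D ⋙ ModSite.sheafHom M)) (a - b)
  obtain ⟨T, hT, h⟩ := bind_cover (Q := fun U g =>
      Groth.Agent.ModFlat16.smap (colimit (D ⋙ ModSite.sheafHom M)) g (a - b) = 0) T₁ hT₁ fun U g hg => by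
    obtain ⟨l, t, ht⟩ := h₁ g hg
    have ht0 : ((ModSite.sheafHom M).map (c.ι.app l)).val.app (op U) t = 0 := by
      refine Eq.trans ?_ ((congrArg (fun w => κ.val.app (op U) w) ht).trans ?_)
      · refine Eq.trans ?_ (map_app_comp (colimit.ι (D ⋙ ModSite.sheafHom M) l) κ t)
        rw [colimit.ι_desc]
        rfl
      · refine (app_smap κ g (a - b)).trans ?_
        rw [h0, map_zero]
    obtain ⟨T₂, hT₂, h₂⟩ := covd_hasGens (M := M) U
    refine bind_cover T₂ hT₂ fun U₂ g₂ hg₂ => ?_
    obtain ⟨ι, hι, s, hs⟩ := h₂ g₂ hg₂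
    have hz : ∀ i, (c.ι.app l).val.app (op U₂) (hval (Groth.Agent.ModFlat16.smap _ g₂ t) (s i)) =
        (c.ι.app l).val.app (op U₂) 0 := fun i => by
      rw [map_zero, ← hval_map, app_smap, ht0, hval_zero_map]
    obtain ⟨T₃, hT₃, h₃⟩ := exists_stage_kills hc (fun i => hval (Groth.Agent.ModFlat16.smap _ g₂ t) (s i)) (fun _ => 0) hz
    refine ⟨T₃, hT₃, fun U₃ g₃ hg₃ => ?_⟩
    obtain ⟨k, f, hf⟩ := h₃ g₃ hg₃
    have hfz : ((ModSite.sheafHom M).map (D.map f)).val.app (op U₃)
        (Groth.Agent.ModFlat16.smap ((ModSite.sheafHom M).obj (D.obj l)) (g₃ ≫ g₂) t) = 0 := by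
      refine hval_ext _ _ fun {V} u x => hval_eq_of_gens (gens_smap g₃ hs) _ _ (fun i => ?_) u x
      have := hf i
      rw [map_zero, map_zero, ← hval_smap] at this
      rw [hval_map, hval_zero_left, smap_comp]
      exact this
    show Groth.Agent.ModFlat16.smap _ ((g₃ ≫ g₂) ≫ g) (a - b) = 0
    rw [smap_comp]
    refine (congrArg (fun w => Groth.Agent.ModFlat16.smap (colimit (D ⋙ ModSite.sheafHom M)) (g₃ ≫ g₂) w) ht).symm.trans ?_
    refine (app_smap (colimit.ι (D ⋙ ModSite.sheafHom M) l) (g₃ ≫ g₂) t).symm.trans ?_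
    rw [← colimit.w (D ⋙ ModSite.sheafHom M) f]
    refine (map_app_comp ((ModSite.sheafHom M).map (D.map f)) _ _).trans ?_
    exact (congrArg (fun w => (colimit.ι (D ⋙ ModSite.sheafHom M) k).val.app (op U₃) w) hfz).trans
      (map_zero ((colimit.ι (D ⋙ ModSite.sheafHom M) k).val.app (op U₃)).hom)
  exact eq_of_locally _ 0 T hT fun U g hg => (h g hg).trans (map_zero _).symm

theorem preservesColimit_sheafHom (M : ModSite.Mod O) [ModSite.HasSheafHom M]
    [SheafOfModules.IsFinitePresentation (R := ModSite.ringSh O) M] (D : Λ ⥤ ModSite.Mod O) :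
    PreservesColimit D (ModSite.sheafHom M) where
  preserves {c} hc := ⟨by
    haveI := epi_comparison (M := M) hc
    haveI := mono_comparison (M := M) hc
    haveI : IsIso ((colimit.isColimit (D ⋙ ModSite.sheafHom M)).desc ((ModSite.sheafHom M).mapCocone c)) :=
      isIso_of_mono_of_epi (colimit.desc (D ⋙ ModSite.sheafHom M) ((ModSite.sheafHom M).mapCocone c))
    exact IsColimit.ofPointIso (colimit.isColimit (D ⋙ ModSite.sheafHom M))⟩

end Groth.Agent.FinPres16
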