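import Groth.Agent.Lib.ModFlat16.Criterion
import Mathlib.CategoryTheory.Sites.Limits
import Mathlib.CategoryTheory.Limits.ConcreteCategory.Filtered
import Mathlib.Algebra.Category.ModuleCat.Sheaf.Colimits

/-! Filtered colimits of sheaves of modules on a site, on sections. -/

set_option autoImplicit false
set_option linter.style.haveILetI false
set_option linter.unusedSectionVars false
set_option backward.isDefEq.respectTransparency false
set_option backward.isDefEq.respectTransparency.types false

universe u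

open CategoryTheory CategoryTheory.Limits Opposite

noncomputable section

namespace Groth.Agent.FinPres16

variable {C : Type u} [SmallCategory C] {J : GrothendieckTopology C} {Λ : Type u} [SmallCategory Λ]

section Ab

variable {D : Λ ⥤ Sheaf J AddCommGrpCat.{u}} {c : Cocone D} (hc : IsColimit c)

/-- The colimit of presheaves. -/
abbrev preColim (D : Λ ⥤ Sheaf J AddCommGrpCat.{u}) : Cocone (D ⋙ sheafToPresheaf J AddCommGrpCat.{u}) :=
  colimit.cocone (D ⋙ sheafToPresheaf J AddCommGrpCat.{u})

/-- The comparison with the sheafified colimit. -/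
def colimIso : c.pt ≅ (Sheaf.sheafifyCocone (preColim D)).pt :=
  hc.coconePointUniqueUpToIso (Sheaf.isColimitSheafifyCocone _ (colimit.isColimit _))

/-- The colimit of presheaves maps to the colimit of sheaves. -/
def preToColim : (preColim D).pt ⟶ c.pt.obj :=
  toSheafify J _ ≫ (colimIso hc).inv.hom

theorem app_preToColim (l : Λ) {U : C} (t : (D.obj l).obj.obj (op U)) :
    (preToColim hc).app (op U) (((preColim D).ι.app l).app (op U) t) = (c.ι.app l).hom.app (op U) t := by
  have h : (preColim D).ι.app l ≫ preToColim hc = (c.ι.app l).hom := by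
    rw [preToColim, ← Category.assoc, ← Sheaf.sheafifyCocone_ι_app_val]
    exact congrArg (fun q : D.obj l ⟶ c.pt => q.hom)
      (hc.comp_coconePointUniqueUpToIso_inv (Sheaf.isColimitSheafifyCocone _ (colimit.isColimit _)) l)
  exact congrArg (fun q : (D.obj l).obj ⟶ c.pt.obj => q.app (op U) t) h

instance isLocallySurjective_preToColim : Presheaf.IsLocallySurjective J (preToColim hc) := by
  haveI : IsIso (colimIso hc).inv.hom := inferInstanceAs (IsIso ((sheafToPresheaf J _).map (colimIso hc).inv))
  exact Presheaf.isLocallySurjective_comp J _ _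

instance isLocallyInjective_preToColim : Presheaf.IsLocallyInjective J (preToColim hc) := by
  haveI : IsIso (colimIso hc).inv.hom := inferInstanceAs (IsIso ((sheafToPresheaf J _).map (colimIso hc).inv))
  exact Presheaf.isLocallyInjective_comp J _ _

include hc in
theorem exists_stage_rep [IsFiltered Λ] {U : C} (s : c.pt.obj.obj (op U)) :
    ∃ S ∈ J U, ∀ ⦃W : C⦄ (g : W ⟶ U), S g →
      ∃ (l : Λ) (t : (D.obj l).obj.obj (op W)), (c.ι.app l).hom.app (op W) t = c.pt.obj.map g.op s := by
  refine ⟨_, Presheaf.imageSieve_mem J (preToColim hc) s, fun W g hg => ?_⟩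
  obtain ⟨z, hz⟩ := hg
  obtain ⟨l, t, ht⟩ := Concrete.isColimit_exists_rep _
    (isColimitOfPreserves ((evaluation Cᵒᵖ AddCommGrpCat.{u}).obj (op W)) (colimit.isColimit (D ⋙ sheafToPresheaf J _))) z
  refine ⟨l, t, ?_⟩
  rw [← app_preToColim hc l t]
  exact (congrArg ((preToColim hc).app (op W)) ht).trans hz

include hc in
theorem exists_stage_eq [IsFiltered Λ] {l : Λ} {U : C} (t t' : (D.obj l).obj.obj (op U))
    (h : (c.ι.app l).hom.app (op U) t = (c.ι.app l).hom.app (op U) t') :
    ∃ S ∈ J U, ∀ ⦃W : C⦄ (g : W ⟶ U), S g →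
      ∃ (k : Λ) (f : l ⟶ k), (D.map f).hom.app (op W) ((D.obj l).obj.map g.op t) =
        (D.map f).hom.app (op W) ((D.obj l).obj.map g.op t') := by
  rw [← app_preToColim hc l t, ← app_preToColim hc l t'] at h
  refine ⟨_, Presheaf.equalizerSieve_mem J (preToColim hc) _ _ h, fun W g hg => ?_⟩
  have hg' : ((preColim D).ι.app l).app (op W) ((D.obj l).obj.map g.op t) =
      ((preColim D).ι.app l).app (op W) ((D.obj l).obj.map g.op t') :=
    (NatTrans.naturality_apply ((preColim D).ι.app l) g.op t).trans
      (hg.trans (NatTrans.naturality_apply ((preColim D).ι.app l) g.op t').symm)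
  obtain ⟨k, f, g', hfg⟩ := Concrete.isColimit_exists_of_rep_eq _
    (isColimitOfPreserves ((evaluation Cᵒᵖ AddCommGrpCat.{u}).obj (op W)) (colimit.isColimit (D ⋙ sheafToPresheaf J _)))
    _ _ hg'
  refine ⟨IsFiltered.coeq f g', f ≫ IsFiltered.coeqHom f g', ?_⟩
  have := congrArg (fun z => (D.map (IsFiltered.coeqHom f g')).hom.app (op W) z) hfg
  have e : ∀ (q : l ⟶ k) (z : (D.obj l).obj.obj (op W)),
      (D.map (q ≫ IsFiltered.coeqHom f g')).hom.app (op W) z =
        (D.map (IsFiltered.coeqHom f g')).hom.app (op W) ((D.map q).hom.app (op W) z) := fun q z => by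
    rw [D.map_comp]; rfl
  exact (e f _).trans (this.trans ((e g' _).symm.trans (congrArg
    (fun q : l ⟶ IsFiltered.coeq f g' => (D.map q).hom.app (op W) ((D.obj l).obj.map g.op t'))
    (IsFiltered.coeq_condition f g').symm)))

end Ab

section Mod

variable {O : Sheaf J CommRingCat.{u}} {D : Λ ⥤ ModSite.Mod O} {c : Cocone D} (hc : IsColimit c)

include hc in
theorem exists_stage_rep_mod [IsFiltered Λ] {U : C} (s : ModSite.sect c.pt U) :
    ∃ S ∈ J U, ∀ ⦃W : C⦄ (g : W ⟶ U), S g →
      ∃ (l : Λ) (t : ModSite.sect (D.obj l) W), (c.ι.app l).val.app (op W) t = ModFlat16.smap c.pt g s :=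
  haveI : PreservesColimitsOfSize.{u, u} (SheafOfModules.toSheaf (ModSite.ringSh O)) := ⟨inferInstance⟩
  exists_stage_rep (D := D ⋙ SheafOfModules.toSheaf (ModSite.ringSh O))
    (isColimitOfPreserves (SheafOfModules.toSheaf (ModSite.ringSh O)) hc) (U := U) s

include hc in
theorem exists_stage_eq_mod [IsFiltered Λ] {l : Λ} {U : C} (t t' : ModSite.sect (D.obj l) U)
    (h : (c.ι.app l).val.app (op U) t = (c.ι.app l).val.app (op U) t') :
    ∃ S ∈ J U, ∀ ⦃W : C⦄ (g : W ⟶ U), S g →
      ∃ (k : Λ) (f : l ⟶ k), (D.map f).val.app (op W) (ModFlat16.smap (D.obj l) g t) =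
        (D.map f).val.app (op W) (ModFlat16.smap (D.obj l) g t') :=
  haveI : PreservesColimitsOfSize.{u, u} (SheafOfModules.toSheaf (ModSite.ringSh O)) := ⟨inferInstance⟩
  exists_stage_eq (D := D ⋙ SheafOfModules.toSheaf (ModSite.ringSh O))
    (isColimitOfPreserves (SheafOfModules.toSheaf (ModSite.ringSh O)) hc) (U := U) t t' h

end Mod

end Groth.Agent.FinPres16
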