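import Groth.Agent.Lib.FinPres16.HomLocal
import Mathlib.CategoryTheory.Sites.LocallyBijective
import Mathlib.CategoryTheory.Limits.Types.Filtered

/-! `Hom(F, -)` commutes with filtered colimits for finitely presented `F`. -/

set_option autoImplicit false
set_option linter.style.haveILetI false
set_option linter.unusedSectionVars false
set_option backward.isDefEq.respectTransparency false
set_option backward.isDefEq.respectTransparency.types false

universe u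

open CategoryTheory CategoryTheory.Limits Opposite

noncomputable section

namespace Groth.Agent.FinPres16

open ModFlat16

variable {C : Type u} [SmallCategory C] {J : GrothendieckTopology C}

/-- Maps out of the sheaf of an object are its sections. -/
def el (G : Sheaf J (Type u)) {V : C} :
    ((presheafToSheaf J (Type u)).obj (yoneda.obj V) ⟶ G) ≃ G.obj.obj (op V) :=
  ((sheafificationAdjunction J (Type u)).homEquiv _ G).trans yonedaEquiv

theorem el_apply {G : Sheaf J (Type u)} {V : C} (f : (presheafToSheaf J (Type u)).obj (yoneda.obj V) ⟶ G) :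
    el G f = f.hom.app (op V) ((toSheafify J (yoneda.obj V)).app (op V) (𝟙 V)) := rfl

theorem el_natural {G : Sheaf J (Type u)} {V W : C} (f : (presheafToSheaf J (Type u)).obj (yoneda.obj V) ⟶ G)
    (m : W ⟶ V) : f.hom.app (op W) ((toSheafify J (yoneda.obj V)).app (op W) m) = G.obj.map m.op (el G f) := by
  rw [el_apply, ← NatTrans.naturality_apply f.hom m.op]
  refine congrArg (f.hom.app (op W)) ?_
  refine Eq.trans ?_ (NatTrans.naturality_apply (toSheafify J (yoneda.obj V)) m.op (𝟙 V))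
  exact congrArg ((toSheafify J (yoneda.obj V)).app (op W)) (Category.comp_id m).symm

theorem el_comp {G G' : Sheaf J (Type u)} {V : C} (f : (presheafToSheaf J (Type u)).obj (yoneda.obj V) ⟶ G)
    (p : G ⟶ G') : el G' (f ≫ p) = p.hom.app (op V) (el G f) := rfl

theorem terminal_sections_eq {V : C} (a b : (⊤_ (Sheaf J (Type u))).obj.obj (op V)) : a = b :=
  (el _).symm.injective (terminalIsTerminal.hom_ext _ _)

theorem prod_sections_ext {K L : Sheaf J (Type u)} {V : C} {z z' : (K ⨯ L).obj.obj (op V)}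
    (h₁ : (prod.fst : K ⨯ L ⟶ K).hom.app (op V) z = (prod.fst : K ⨯ L ⟶ K).hom.app (op V) z')
    (h₂ : (prod.snd : K ⨯ L ⟶ L).hom.app (op V) z = (prod.snd : K ⨯ L ⟶ L).hom.app (op V) z') : z = z' := by
  obtain ⟨f, rfl⟩ := (el _).surjective z
  obtain ⟨g, rfl⟩ := (el _).surjective z'
  rw [← el_comp, ← el_comp] at h₁ h₂
  exact congrArg _ (prod.hom_ext ((el _).injective h₁) ((el _).injective h₂))

/-- The pairs of sections are locally restrictions of the given ones. -/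
def PairsCover (K : Sheaf J (Type u)) {I : Type u} (P : I → Σ V : C, K.obj.obj (op V) × K.obj.obj (op V)) : Prop :=
  ∀ (V : C) (x y : K.obj.obj (op V)), ∃ S ∈ J V, ∀ ⦃W : C⦄ (m : W ⟶ V), S m →
    ∃ (i : I) (n : W ⟶ (P i).1), K.obj.map m.op x = K.obj.map n.op (P i).2.1 ∧
      K.obj.map m.op y = K.obj.map n.op (P i).2.2

theorem exists_finite_pairs {K : Sheaf J (Type u)} (hK : CohCx.IsQcObject (K ⨯ K)) {I : Type u}
    (P : I → Σ V : C, K.obj.obj (op V) × K.obj.obj (op V)) (h : PairsCover K P) :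
    ∃ t : Finset I, PairsCover K fun i : t => P i.1 := by
  let L : I → Sheaf J (Type u) := fun i => (presheafToSheaf J (Type u)).obj (yoneda.obj (P i).1)
  let f : ∀ i, L i ⟶ K ⨯ K := fun i => prod.lift ((el K).symm (P i).2.1) ((el K).symm (P i).2.2)
  have hf1 : ∀ i {W : C} (n : W ⟶ (P i).1),
      (prod.fst : K ⨯ K ⟶ K).hom.app (op W) ((f i).hom.app (op W) ((toSheafify J (yoneda.obj (P i).1)).app (op W) n)) =
        K.obj.map n.op (P i).2.1 := fun i W n => by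
    refine (el_natural (f i ≫ prod.fst) n).trans ?_
    rw [prod.lift_fst, Equiv.apply_symm_apply]
  have hf2 : ∀ i {W : C} (n : W ⟶ (P i).1),
      (prod.snd : K ⨯ K ⟶ K).hom.app (op W) ((f i).hom.app (op W) ((toSheafify J (yoneda.obj (P i).1)).app (op W) n)) =
        K.obj.map n.op (P i).2.2 := fun i W n => by
    refine (el_natural (f i ≫ prod.snd) n).trans ?_
    rw [prod.lift_snd, Equiv.apply_symm_apply]
  have hjs : CohCx.JointlySurjective f := fun V z => by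
    obtain ⟨S, hS, hS'⟩ := h V ((prod.fst : K ⨯ K ⟶ K).hom.app (op V) z) ((prod.snd : K ⨯ K ⟶ K).hom.app (op V) z)
    refine ⟨S, hS, fun W m hm => ?_⟩
    obtain ⟨i, n, hx, hy⟩ := hS' m hm
    refine ⟨i, (toSheafify J (yoneda.obj (P i).1)).app (op W) n, prod_sections_ext ?_ ?_⟩
    · rw [hf1, ← hx]; exact (NatTrans.naturality_apply (prod.fst : K ⨯ K ⟶ K).hom m.op z).symm
    · rw [hf2, ← hy]; exact (NatTrans.naturality_apply (prod.snd : K ⨯ K ⟶ K).hom m.op z).symm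
  obtain ⟨t, ht⟩ := hK I L f hjs
  refine ⟨t, fun V x y => ?_⟩
  let z := el (K ⨯ K) (prod.lift ((el K).symm x) ((el K).symm y))
  have hz1 : (prod.fst : K ⨯ K ⟶ K).hom.app (op V) z = x := by
    rw [← el_comp, prod.lift_fst, Equiv.apply_symm_apply]
  have hz2 : (prod.snd : K ⨯ K ⟶ K).hom.app (op V) z = y := by
    rw [← el_comp, prod.lift_snd, Equiv.apply_symm_apply]
  obtain ⟨S, hS, hS'⟩ := ht V z
  have key : ∀ ⦃W : C⦄ (m : W ⟶ V), S m → ∃ T ∈ J W, ∀ ⦃W' : C⦄ (m' : W' ⟶ W), T m' →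
      ∃ (i : t) (n : W' ⟶ (P i.1).1), K.obj.map (m' ≫ m).op x = K.obj.map n.op (P i.1).2.1 ∧
        K.obj.map (m' ≫ m).op y = K.obj.map n.op (P i.1).2.2 := by
    intro W m hm
    obtain ⟨i, w, hw⟩ := hS' W m hm
    refine ⟨_, Presheaf.imageSieve_mem J (toSheafify J (yoneda.obj (P i.1).1)) w, ?_⟩
    rintro W' m' ⟨n, hn⟩
    have e : (f i.1).hom.app (op W') ((toSheafify J (yoneda.obj (P i.1).1)).app (op W') n) =
        (K ⨯ K).obj.map (m' ≫ m).op z := by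
      rw [hn]
      refine (NatTrans.naturality_apply (f i.1).hom m'.op w).trans ?_
      rw [op_comp, Functor.map_comp_apply]
      exact congrArg _ hw
    refine ⟨i, n, ?_, ?_⟩
    · rw [← hz1, ← hf1, e]; exact (NatTrans.naturality_apply (prod.fst : K ⨯ K ⟶ K).hom (m' ≫ m).op z).symm
    · rw [← hz2, ← hf2, e]; exact (NatTrans.naturality_apply (prod.snd : K ⨯ K ⟶ K).hom (m' ≫ m).op z).symm
  exact bind_cover S hS key

section Cover

variable {𝒜 : Type u} (U : 𝒜 → C)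

/-- The presheaf of maps to one of the objects. -/
def pieces : Cᵒᵖ ⥤ Type u where
  obj V := Σ a, (V.unop ⟶ U a)
  map m := ↾fun p => ⟨p.1, m.unop ≫ p.2⟩
  map_id V := ConcreteCategory.hom_ext _ _ fun p =>
    congrArg (Sigma.mk (β := fun a => V.unop ⟶ U a) p.1) (Category.id_comp p.2)
  map_comp {V W X} m m' := ConcreteCategory.hom_ext _ _ fun p =>
    congrArg (Sigma.mk (β := fun a => X.unop ⟶ U a) p.1) (Category.assoc m'.unop m.unop p.2)

variable {U} {K : Sheaf J (Type u)} (τ : K ⟶ (presheafToSheaf J (Type u)).obj (pieces U))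

/-- The section lies over the given piece. -/
def Real {V : C} (x : K.obj.obj (op V)) (a : 𝒜) (u : V ⟶ U a) : Prop :=
  τ.hom.app (op V) x = (toSheafify J (pieces U)).app (op V) ⟨a, u⟩

theorem Real.res {V W : C} {x : K.obj.obj (op V)} {a : 𝒜} {u : V ⟶ U a} (h : Real τ x a u) (m : W ⟶ V) :
    Real τ (K.obj.map m.op x) a (m ≫ u) := by
  unfold Real at *
  rw [NatTrans.naturality_apply τ.hom m.op x, h]
  exact (NatTrans.naturality_apply (toSheafify J (pieces U)) m.op (⟨a, u⟩ : (pieces U).obj (op V))).symm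

theorem exists_real {V : C} (x : K.obj.obj (op V)) :
    ∃ S ∈ J V, ∀ ⦃W : C⦄ (m : W ⟶ V), S m → ∃ a u, Real τ (K.obj.map m.op x) a u := by
  refine ⟨_, Presheaf.imageSieve_mem J (toSheafify J (pieces U)) (τ.hom.app (op V) x), fun W m hm => ?_⟩
  obtain ⟨⟨a, u⟩, h⟩ := hm
  refine ⟨a, u, ?_⟩
  unfold Real
  rw [NatTrans.naturality_apply τ.hom m.op x]
  exact h.symm

theorem Real.unique {V : C} {x : K.obj.obj (op V)} {a a' : 𝒜} {u : V ⟶ U a} {u' : V ⟶ U a'} (h : Real τ x a u)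
    (h' : Real τ x a' u') :
    ∃ S ∈ J V, ∀ ⦃W : C⦄ (m : W ⟶ V), S m → (⟨a, m ≫ u⟩ : Σ b, (W ⟶ U b)) = ⟨a', m ≫ u'⟩ := by
  unfold Real at *
  refine ⟨_, Presheaf.equalizerSieve_mem (D := Type u) J (toSheafify J (pieces U)) (X := op V)
    (⟨a, u⟩ : (pieces U).obj (op V)) (⟨a', u'⟩ : (pieces U).obj (op V)) (h.symm.trans h'), ?_⟩
  intro W m hm
  exact hm

end Cover

theorem exists_setting (S : Set (Sheaf J (Type u)))
    (hSa : ∀ F : Sheaf J (Type u), Epi (terminal.from F) → ∃ K ∈ S, Epi (terminal.from K) ∧ Nonempty (K ⟶ F))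
    (hSb : ∀ K ∈ S, CohCx.IsQcObject (K ⨯ K)) {Q : C → Prop} (hQ : Covd J Q) :
    ∃ (K : Sheaf J (Type u)) (τ : K ⟶ (presheafToSheaf J (Type u)).obj (pieces fun a : {U : C // Q U} => a.1))
      (A : Finset {U : C // Q U}), CohCx.IsQcObject (K ⨯ K) ∧
      (∀ (V : C) (x : K.obj.obj (op V)), ∃ T ∈ J V, ∀ ⦃W : C⦄ (m : W ⟶ V), T m →
        ∃ a u, a ∈ A ∧ Real τ (K.obj.map m.op x) a u) ∧
      ∀ V : C, ∃ T ∈ J V, ∀ ⦃W : C⦄ (m : W ⟶ V), T m →
        ∃ (x : K.obj.obj (op W)) (a : {U : C // Q U}) (u : W ⟶ a.1), a ∈ A ∧ Real τ x a u := by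
  classical
  let U : {U : C // Q U} → C := fun a => a.1
  have hepi : Epi (terminal.from ((presheafToSheaf J (Type u)).obj (pieces U))) := by
    refine (Sheaf.isLocallySurjective_iff_epi' _ _).1 ⟨fun {V} x => ?_⟩
    obtain ⟨T, hT, hT'⟩ := hQ V
    exact J.superset_covering (fun W m hm =>
      ⟨(toSheafify J (pieces U)).app (op W) ⟨⟨W, hT' m hm⟩, 𝟙 W⟩, terminal_sections_eq _ _⟩) hT
  obtain ⟨K, hKS, hKepi, ⟨τ⟩⟩ := hSa _ hepi
  have hloc : ∀ V : C, ∃ T ∈ J V, ∀ ⦃W : C⦄ (m : W ⟶ V), T m → Nonempty (K.obj.obj (op W)) := fun V => by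
    haveI := hKepi
    haveI : Sheaf.IsLocallySurjective (terminal.from K) := (Sheaf.isLocallySurjective_iff_epi' _ _).2 inferInstance
    let e : (⊤_ (Sheaf J (Type u))).obj.obj (op V) :=
      el _ (terminal.from ((presheafToSheaf J (Type u)).obj (yoneda.obj V)))
    exact ⟨_, Presheaf.imageSieve_mem J (terminal.from K).hom e, fun W m hm => ⟨hm.choose⟩⟩
  let I := Σ V : C, Σ x : K.obj.obj (op V) × K.obj.obj (op V),
    {p : Σ a, (V ⟶ U a) // Real τ x.1 p.1 p.2}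
  obtain ⟨t, ht⟩ := exists_finite_pairs (hSb K hKS) (fun i : I => ⟨i.1, i.2.1⟩) (fun V x y => by
    obtain ⟨T, hT, hT'⟩ := exists_real τ x
    refine ⟨T, hT, fun W m hm => ?_⟩
    obtain ⟨a, u, h⟩ := hT' m hm
    exact ⟨⟨W, (K.obj.map m.op x, K.obj.map m.op y), ⟨⟨a, u⟩, h⟩⟩, 𝟙 W, by simp, by simp⟩)
  have hreal : ∀ (V : C) (x : K.obj.obj (op V)), ∃ T ∈ J V, ∀ ⦃W : C⦄ (m : W ⟶ V), T m →
      ∃ a u, a ∈ t.image (fun i : I => i.2.2.1.1) ∧ Real τ (K.obj.map m.op x) a u := fun V x => by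
    obtain ⟨T, hT, hT'⟩ := ht V x x
    refine ⟨T, hT, fun W m hm => ?_⟩
    obtain ⟨i, n, hx, -⟩ := hT' m hm
    refine ⟨i.1.2.2.1.1, n ≫ i.1.2.2.1.2, Finset.mem_image_of_mem _ i.2, ?_⟩
    rw [hx]
    exact i.1.2.2.2.res τ n
  refine ⟨K, τ, t.image fun i : I => i.2.2.1.1, hSb K hKS, hreal, fun V => ?_⟩
  obtain ⟨T, hT, hT'⟩ := hloc V
  refine bind_cover (Q := fun W _ => ∃ (x : K.obj.obj (op W)) (a : {U : C // Q U}) (u : W ⟶ a.1),
      a ∈ t.image (fun i : I => i.2.2.1.1) ∧ Real τ x a u) T hT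
    fun W m hm => ?_
  obtain ⟨x⟩ := hT' m hm
  obtain ⟨T', hT'', h⟩ := hreal W x
  refine ⟨T', hT'', fun W' m' hm' => ?_⟩
  obtain ⟨a, u, ha, hu⟩ := h m' hm'
  exact ⟨_, a, u, ha, hu⟩

variable {O : Sheaf J CommRingCat.{u}} {M N : ModSite.Mod O}

theorem exists_glue_sieve (N : ModSite.Mod O) {V : C} (T : Sieve V) (hT : T ∈ J V)
    (x : ∀ ⦃W : C⦄ (m : W ⟶ V), T m → ModSite.sect N W)
    (hx : ∀ ⦃W W₁ W₂ : C⦄ (g₁ : W ⟶ W₁) (g₂ : W ⟶ W₂) (m₁ : W₁ ⟶ V) (m₂ : W₂ ⟶ V) (h₁ : T m₁) (h₂ : T m₂),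
      g₁ ≫ m₁ = g₂ ≫ m₂ →
      Groth.Agent.ModFlat16.smap N g₁ (x m₁ h₁) = Groth.Agent.ModFlat16.smap N g₂ (x m₂ h₂)) :
    ∃ z, ∀ ⦃W : C⦄ (m : W ⟶ V) (h : T m), Groth.Agent.ModFlat16.smap N m z = x m h := by
  let F := (sheafCompose J (forget AddCommGrpCat.{u})).obj (ModSite.toAb N)
  have h := (isSheaf_iff_isSheaf_of_type J F.obj).1 F.property _ hT
  obtain ⟨z, hz, -⟩ := h x fun W₁ W₂ W g₁ g₂ f₁ f₂ h₁ h₂ e => hx g₁ g₂ f₁ f₂ h₁ h₂ e
  exact ⟨z, hz⟩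

theorem exists_hom_of_local (val : ∀ {V : C}, ModSite.sect M V → ModSite.sect N V → Prop)
    (hex : ∀ {V : C} (s : ModSite.sect M V), ∃ z, val s z)
    (huniq : ∀ {V : C} {s : ModSite.sect M V} {z z' : ModSite.sect N V}, val s z → val s z' → z = z')
    (hadd : ∀ {V : C} {s s' : ModSite.sect M V} {z z' : ModSite.sect N V},
      val s z → val s' z' → val (s + s') (z + z'))
    (hsmul : ∀ {V : C} (r : O.obj.obj (op V)) {s : ModSite.sect M V} {z : ModSite.sect N V},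
      val s z → val (r • s) (r • z))
    (hres : ∀ {V W : C} (m : W ⟶ V) {s : ModSite.sect M V} {z : ModSite.sect N V},
      val s z → val (Groth.Agent.ModFlat16.smap M m s) (Groth.Agent.ModFlat16.smap N m z)) :
    ∃ φ : M ⟶ N, ∀ {V : C} (s : ModSite.sect M V), val s (φ.val.app (op V) s) := by
  choose f hf using @hex
  refine ⟨⟨PresheafOfModules.Hom.mk (fun V => ModuleCat.ofHom
    { toFun := fun s => f (V := V.unop) s
      map_add' := fun s s' => huniq (hf _) (hadd (hf s) (hf s'))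
      map_smul' := fun r s => huniq (hf _) (hsmul r (hf s)) })
    (fun {V W} m => ModuleCat.hom_ext (LinearMap.ext fun s => huniq (hf _) (hres m.unop (hf s))))⟩, fun s => hf s⟩

variable {Λ : Type u} [SmallCategory Λ] [IsFiltered Λ] {D : Λ ⥤ ModSite.Mod O} {c : Cocone D} (hc : IsColimit c)
  (S : Set (Sheaf J (Type u)))
  (hSa : ∀ F : Sheaf J (Type u), Epi (terminal.from F) → ∃ K ∈ S, Epi (terminal.from K) ∧ Nonempty (K ⟶ F))
  (hSb : ∀ K ∈ S, CohCx.IsQcObject (K ⨯ K))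

include hc hSa hSb in
theorem exists_stage_eq_hom [SheafOfModules.IsFiniteType (R := ModSite.ringSh O) M] {l : Λ} (φ φ' : M ⟶ D.obj l)
    (h : φ ≫ c.ι.app l = φ' ≫ c.ι.app l) : ∃ (k : Λ) (f : l ⟶ k), φ ≫ D.map f = φ' ≫ D.map f := by
  obtain ⟨K, τ, A, -, -, hloc⟩ := exists_setting S hSa hSb (covd_kills hc φ φ' h)
  choose k f hf using fun a : A => a.1.2
  obtain ⟨m, g, h', he⟩ := exists_upper_maps k f
  refine ⟨m, h', SheafOfModules.hom_ext (PresheafOfModules.hom_ext fun V => ModuleCat.hom_ext (LinearMap.ext fun s => ?_))⟩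
  obtain ⟨V⟩ := V
  obtain ⟨T, hT, hT'⟩ := hloc V
  refine eq_of_locally _ _ T hT fun W j hj => ?_
  obtain ⟨x, a, u, ha, -⟩ := hT' j hj
  rw [← app_smap, ← app_smap, ← he ⟨a, ha⟩, D.map_comp, ← Category.assoc, ← Category.assoc]
  exact congrArg (fun z => (D.map (g ⟨a, ha⟩)).val.app (op W) z) (hf ⟨a, ha⟩ u (Groth.Agent.ModFlat16.smap M j s))

theorem exists_agree [SheafOfModules.IsFiniteType (R := ModSite.ringSh O) M] (hc : IsColimit c) (φ : M ⟶ c.pt)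
    {K : Sheaf J (Type u)} (hK : CohCx.IsQcObject (K ⨯ K)) {𝒜 : Type u} {U : 𝒜 → C}
    (τ : K ⟶ (presheafToSheaf J (Type u)).obj (pieces U)) (A : Finset 𝒜)
    (hreal : ∀ (V : C) (x : K.obj.obj (op V)), ∃ T ∈ J V, ∀ ⦃W : C⦄ (m : W ⟶ V), T m →
      ∃ a u, a ∈ A ∧ Real τ (K.obj.map m.op x) a u)
    {l : Λ} (ψ : ∀ a : A, (ModSite.restr O (U a.1)).obj M ⟶ (ModSite.restr O (U a.1)).obj (D.obj l))
    (hψ : ∀ (a : A) {V : C} (u : V ⟶ U a.1) (s : ModSite.sect M V),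
      (c.ι.app l).val.app (op V) (onSlice (ψ a) u s) = φ.val.app (op V) s) :
    ∃ (k : Λ) (f : l ⟶ k), ∀ {V : C} (x y : K.obj.obj (op V)) (a b : A) (u : V ⟶ U a.1) (v : V ⟶ U b.1),
      Real τ x a.1 u → Real τ y b.1 v → ∀ s : ModSite.sect M V,
      (D.map f).val.app (op V) (onSlice (ψ a) u s) = (D.map f).val.app (op V) (onSlice (ψ b) v s) := by
  classical
  let Good : ∀ (V : C) (k : Λ), (l ⟶ k) → ∀ (a b : A), (V ⟶ U a.1) → (V ⟶ U b.1) → Prop :=
    fun V k f a b u v => ∀ (W : C) (m : W ⟶ V) (s : ModSite.sect M W),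
      (D.map f).val.app (op W) (onSlice (ψ a) (m ≫ u) s) = (D.map f).val.app (op W) (onSlice (ψ b) (m ≫ v) s)
  let Data : ∀ V : C, K.obj.obj (op V) × K.obj.obj (op V) → Type u := fun V xy =>
    {q : Σ' (k : Λ) (_ : l ⟶ k) (a b : A) (_ : V ⟶ U a.1), V ⟶ U b.1 //
      Real τ xy.1 q.2.2.1.1 q.2.2.2.2.1 ∧ Real τ xy.2 q.2.2.2.1.1 q.2.2.2.2.2 ∧
        Good V q.1 q.2.1 q.2.2.1 q.2.2.2.1 q.2.2.2.2.1 q.2.2.2.2.2}
  let I := Σ V : C, Σ xy : K.obj.obj (op V) × K.obj.obj (op V), Data V xy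
  have hcover : PairsCover K fun i : I => ⟨i.1, i.2.1⟩ := by
    intro V x y
    obtain ⟨T, hT, hT'⟩ := hreal V x
    refine bind_cover T hT fun W m hm => ?_
    obtain ⟨a, u, ha, hu⟩ := hT' m hm
    obtain ⟨T₁, hT₁, hT₁'⟩ := hreal W (K.obj.map m.op y)
    refine bind_cover (Q := fun W₁ m₁ => ∃ (i : I) (n : W₁ ⟶ i.1), K.obj.map (m₁ ≫ m).op x = K.obj.map n.op i.2.1.1 ∧
      K.obj.map (m₁ ≫ m).op y = K.obj.map n.op i.2.1.2) T₁ hT₁ fun W₁ m₁ hm₁ => ?_
    obtain ⟨b, v, hb, hv⟩ := hT₁' m₁ hm₁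
    obtain ⟨T₂, hT₂, hT₂'⟩ := covd_hasGens (M := M) W₁
    refine bind_cover T₂ hT₂ fun W₂ m₂ hm₂ => ?_
    obtain ⟨ι, hι, s, hs⟩ := hT₂' m₂ hm₂
    obtain ⟨T₃, hT₃, hT₃'⟩ := exists_stage_kills hc (fun i => onSlice (ψ ⟨a, ha⟩) (m₂ ≫ m₁ ≫ u) (s i))
      (fun i => onSlice (ψ ⟨b, hb⟩) (m₂ ≫ v) (s i)) (fun i => (hψ _ _ _).trans (hψ _ _ _).symm)
    refine ⟨T₃, hT₃, fun W₃ m₃ hm₃ => ?_⟩
    obtain ⟨k, f, hk⟩ := hT₃' m₃ hm₃
    refine ⟨⟨W₃, (K.obj.map ((m₃ ≫ m₂) ≫ m₁).op (K.obj.map m.op x), K.obj.map (m₃ ≫ m₂).op (K.obj.map m₁.op (K.obj.map m.op y))),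
      ⟨⟨k, f, ⟨a, ha⟩, ⟨b, hb⟩, ((m₃ ≫ m₂) ≫ m₁) ≫ u, (m₃ ≫ m₂) ≫ v⟩, hu.res τ _, hv.res τ _, ?_⟩⟩, 𝟙 W₃, ?_, ?_⟩
    · intro W₄ m₄ z
      obtain ⟨T₄, hT₄, hz⟩ := gens_apply (gens_smap m₃ hs) m₄ z
      refine eq_of_locally _ _ T₄ hT₄ fun W₅ m₅ hm₅ => ?_
      obtain ⟨d, hd⟩ := hz m₅ hm₅
      rw [← app_smap, ← app_smap, ← onSlice_smap, ← onSlice_smap, hd]
      refine Eq.trans (congrArg (fun z => (D.map f).val.app (op W₅) z)
        ((map_sum ((ψ ⟨a, ha⟩).val.app (op (Over.mk _))).hom _ _).trans (Finset.sum_congr rfl fun i _ =>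
          ((ψ ⟨a, ha⟩).val.app (op (Over.mk _))).hom.map_smul (d i) _))) ?_
      refine Eq.trans ?_ (congrArg (fun z => (D.map f).val.app (op W₅) z)
        ((map_sum ((ψ ⟨b, hb⟩).val.app (op (Over.mk _))).hom _ _).trans (Finset.sum_congr rfl fun i _ =>
          ((ψ ⟨b, hb⟩).val.app (op (Over.mk _))).hom.map_smul (d i) _))).symm
      rw [app_comb, app_comb]
      refine Finset.sum_congr rfl fun i _ => congrArg (d i • ·) ?_
      show (D.map f).val.app (op W₅) (onSlice (ψ ⟨a, ha⟩) _ _) = (D.map f).val.app (op W₅) (onSlice (ψ ⟨b, hb⟩) _ _)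
      rw [← smap_comp,
        show m₅ ≫ m₄ ≫ ((m₃ ≫ m₂) ≫ m₁) ≫ u = ((m₅ ≫ m₄) ≫ m₃) ≫ m₂ ≫ m₁ ≫ u by simp only [Category.assoc],
        show m₅ ≫ m₄ ≫ (m₃ ≫ m₂) ≫ v = ((m₅ ≫ m₄) ≫ m₃) ≫ m₂ ≫ v by simp only [Category.assoc],
        onSlice_smap, onSlice_smap, smap_comp m₃, smap_comp m₃, app_smap (D.map f) (m₅ ≫ m₄),
        app_smap (D.map f) (m₅ ≫ m₄), hk i]
    · simp only [← Functor.map_comp_apply, ← op_comp, Category.id_comp, Category.assoc]
    · simp only [← Functor.map_comp_apply, ← op_comp, Category.id_comp, Category.assoc]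
  obtain ⟨t, ht⟩ := exists_finite_pairs hK _ hcover
  obtain ⟨m, g, h', he⟩ := exists_upper_maps (fun i : t => i.1.2.2.1.1) (fun i : t => i.1.2.2.1.2.1)
  refine ⟨m, h', fun {V} x y a b u v hu hv s => ?_⟩
  obtain ⟨T, hT, hT'⟩ := ht V x y
  refine eq_of_locally _ _ T hT fun W n hn => ?_
  obtain ⟨i, p, hx, hy⟩ := hT' n hn
  let q := i.1.2.2.1
  let a' : A := q.2.2.1
  let b' : A := q.2.2.2.1
  let u' : i.1.1 ⟶ U a'.1 := q.2.2.2.2.1
  let v' : i.1.1 ⟶ U b'.1 := q.2.2.2.2.2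
  have hu' : Real τ i.1.2.1.1 a'.1 u' := i.1.2.2.2.1
  have hv' : Real τ i.1.2.1.2 b'.1 v' := i.1.2.2.2.2.1
  have hgood : Good i.1.1 q.1 q.2.1 a' b' u' v' := i.1.2.2.2.2.2
  have h1 := hu.res τ n
  have h2 := hv.res τ n
  rw [hx] at h1
  rw [hy] at h2
  obtain ⟨T₁, hT₁, e₁⟩ := Real.unique τ h1 (hu'.res τ p)
  obtain ⟨T₂, hT₂, e₂⟩ := Real.unique τ h2 (hv'.res τ p)
  refine eq_of_locally _ _ (T₁ ⊓ T₂) (J.intersection_covering hT₁ hT₂) fun W' n' hn' => ?_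
  rw [← smap_comp, ← smap_comp, ← app_smap, ← app_smap, ← onSlice_smap, ← onSlice_smap]
  have ea := e₁ n' hn'.1
  have eb := e₂ n' hn'.2
  have key : ∀ (a a' : A) (u : W' ⟶ U a.1) (u' : W' ⟶ U a'.1) (z : ModSite.sect M W'),
      (⟨a.1, u⟩ : Σ b, (W' ⟶ U b)) = ⟨a'.1, u'⟩ → onSlice (ψ a) u z = onSlice (ψ a') u' z := by
    intro a a' u u' z e
    obtain rfl : a = a' := Subtype.ext (congrArg Sigma.fst e)
    rw [Sigma.mk.injEq] at e
    rw [eq_of_heq e.2]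
  rw [key a a' ((n' ≫ n) ≫ u) _ _ ((congrArg _ (Category.assoc n' n u)).trans ea),
    key b b' ((n' ≫ n) ≫ v) _ _ ((congrArg _ (Category.assoc n' n v)).trans eb), ← he i, D.map_comp, ← Category.assoc n' p u',
    ← Category.assoc n' p v']
  exact congrArg (fun z => (D.map (g i)).val.app (op W') z) (hgood W' (n' ≫ p) _)

include hc hSa hSb in
theorem exists_stage_hom [SheafOfModules.IsFinitePresentation (R := ModSite.ringSh O) M] (φ : M ⟶ c.pt) :
    ∃ (l : Λ) (θ : M ⟶ D.obj l), θ ≫ c.ι.app l = φ := by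
  classical
  obtain ⟨K, τ, A, hK, hreal, hloc⟩ := exists_setting S hSa hSb (covd_factors hc φ)
  choose l₁ ψ₁ hψ₁ using fun a : A => a.1.2
  obtain ⟨l, hl⟩ := exists_upper l₁
  let ψ : ∀ a : A, (ModSite.restr O a.1.1).obj M ⟶ (ModSite.restr O a.1.1).obj (D.obj l) :=
    fun a => ψ₁ a ≫ (ModSite.restr O a.1.1).map (D.map (hl a).some)
  have hψ : ∀ (a : A) {V : C} (u : V ⟶ a.1.1) (s : ModSite.sect M V),
      (c.ι.app l).val.app (op V) (onSlice (ψ a) u s) = φ.val.app (op V) s := fun a V u s => by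
    refine Eq.trans ?_ (hψ₁ a u s)
    exact (map_app_comp (D.map (hl a).some) (c.ι.app l) _).symm.trans
      (congrArg (fun q : D.obj (l₁ a) ⟶ c.pt => q.val.app (op V) (onSlice (ψ₁ a) u s)) (c.w (hl a).some))
  obtain ⟨k, f, hk⟩ := exists_agree hc φ hK τ A hreal ψ hψ
  let val : ∀ {V : C}, ModSite.sect M V → ModSite.sect (D.obj k) V → Prop := fun {V} s z =>
    ∀ ⦃W : C⦄ (m : W ⟶ V) (x : K.obj.obj (op W)) (a : A) (u : W ⟶ a.1.1), Real τ x a.1 u →
      Groth.Agent.ModFlat16.smap (D.obj k) m z =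
        (D.map f).val.app (op W) (onSlice (ψ a) u (Groth.Agent.ModFlat16.smap M m s))
  obtain ⟨θ, hθ⟩ := exists_hom_of_local (M := M) (N := D.obj k) val
    (fun {V} s => by
      obtain ⟨T, hT, hT'⟩ := hloc V
      choose x a u ha hu using hT'
      obtain ⟨z, hz⟩ := exists_glue_sieve (D.obj k) T hT
        (fun W m hm => (D.map f).val.app (op W) (onSlice (ψ ⟨_, ha m hm⟩) (u m hm) (Groth.Agent.ModFlat16.smap M m s)))
        (fun W W₁ W₂ g₁ g₂ m₁ m₂ h₁ h₂ e => by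
          rw [← app_smap, ← app_smap, ← onSlice_smap, ← onSlice_smap, ← smap_comp, ← smap_comp, ← e]
          exact hk _ _ ⟨_, ha m₁ h₁⟩ ⟨_, ha m₂ h₂⟩ _ _ ((hu m₁ h₁).res τ g₁) ((hu m₂ h₂).res τ g₂) _)
      refine ⟨z, fun W m y b v hv => ?_⟩
      refine eq_of_locally _ _ (T.pullback m) (J.pullback_stable m hT) fun W' m' hm' => ?_
      rw [← smap_comp, hz (m' ≫ m) hm', ← app_smap, ← onSlice_smap, ← smap_comp]
      exact hk _ _ ⟨_, ha (m' ≫ m) hm'⟩ b _ _ (hu (m' ≫ m) hm') (hv.res τ m') _)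
    (fun {V} s z z' h h' => by
      obtain ⟨T, hT, hT'⟩ := hloc V
      refine eq_of_locally _ _ T hT fun W m hm => ?_
      obtain ⟨x, a, u, ha, hu⟩ := hT' m hm
      rw [h m x ⟨a, ha⟩ u hu, h' m x ⟨a, ha⟩ u hu])
    (fun {V} s s' z z' h h' W m x a u hu => by
      rw [map_add, map_add, h m x a u hu, h' m x a u hu]
      refine ((congrArg (fun w => (D.map f).val.app (op W) w) (map_add ((ψ a).val.app (op (Over.mk u))).hom _ _)).trans
        (map_add ((D.map f).val.app (op W)).hom _ _)).symm)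
    (fun {V} r s z h W m x a u hu => by
      rw [smap_smul, smap_smul, h m x a u hu]
      refine ((congrArg (fun w => (D.map f).val.app (op W) w)
        (((ψ a).val.app (op (Over.mk u))).hom.map_smul (rmap O m r) _)).trans
        (((D.map f).val.app (op W)).hom.map_smul (rmap O m r) _)).symm)
    (fun {V W} m s z h W' m' x a u hu => by
      rw [← smap_comp, ← smap_comp]
      exact h (m' ≫ m) x a u hu)
  refine ⟨k, θ, SheafOfModules.hom_ext (PresheafOfModules.hom_ext fun V => ModuleCat.hom_ext (LinearMap.ext fun s => ?_))⟩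
  obtain ⟨V⟩ := V
  obtain ⟨T, hT, hT'⟩ := hloc V
  refine eq_of_locally _ _ T hT fun W m hm => ?_
  obtain ⟨x, a, u, ha, hu⟩ := hT' m hm
  show Groth.Agent.ModFlat16.smap c.pt m ((c.ι.app k).val.app (op V) (θ.val.app (op V) s)) = _
  refine (app_smap (c.ι.app k) m _).symm.trans ?_
  rw [hθ s m x ⟨a, ha⟩ u hu, ← map_app_comp, c.w]
  exact (hψ ⟨a, ha⟩ u _).trans (app_smap φ m s)

theorem preservesColimit_coyoneda (S : Set (Sheaf J (Type u)))
    (hSa : ∀ F : Sheaf J (Type u), Epi (terminal.from F) → ∃ K ∈ S, Epi (terminal.from K) ∧ Nonempty (K ⟶ F))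
    (hSb : ∀ K ∈ S, CohCx.IsQcObject (K ⨯ K))
    (M : ModSite.Mod O) [SheafOfModules.IsFinitePresentation (R := ModSite.ringSh O) M] (D : Λ ⥤ ModSite.Mod O) :
    PreservesColimit D (coyoneda.obj (op M)) where
  preserves {c} hc := ⟨Types.FilteredColimit.isColimitOf' _ _
    (fun φ => by
      obtain ⟨l, θ, h⟩ := exists_stage_hom hc S hSa hSb (M := M) φ
      exact ⟨l, θ, h.symm⟩)
    (fun l a b h => exists_stage_eq_hom hc S hSa hSb (M := M) a b h)⟩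

end Groth.Agent.FinPres16
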