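import Groth.Agent.Lib.ModFlat16.Basis
import Groth.Agent.Lib.FinPres16.Colim

/-! Maps out of finitely presented modules into filtered colimits, locally. -/

set_option autoImplicit false
set_option linter.style.haveILetI false
set_option linter.unusedSectionVars false
set_option backward.isDefEq.respectTransparency false
set_option backward.isDefEq.respectTransparency.types false

universe u

open CategoryTheory CategoryTheory.Limits Opposite

noncomputable section

namespace Groth.Agent.FinPres16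

open ModFlat16

variable {C : Type u} [SmallCategory C] {J : GrothendieckTopology C} {O : Sheaf J CommRingCat.{u}}
  {M N : ModSite.Mod O}

/-- The value of a map over the slice, on sections. -/
abbrev onSlice {U : C} (ψ : (ModSite.restr O U).obj M ⟶ (ModSite.restr O U).obj N) {V : C} (u : V ⟶ U)
    (s : ModSite.sect M V) : ModSite.sect N V :=
  ψ.val.app (op (Over.mk u)) s

theorem onSlice_smap {U : C} (ψ : (ModSite.restr O U).obj M ⟶ (ModSite.restr O U).obj N) {V W : C} (u : V ⟶ U)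
    (m : W ⟶ V) (s : ModSite.sect M V) :
    onSlice ψ (m ≫ u) (Groth.Agent.ModFlat16.smap M m s) = Groth.Agent.ModFlat16.smap N m (onSlice ψ u s) :=
  PresheafOfModules.naturality_apply ψ.val (Over.homMk m : Over.mk (m ≫ u) ⟶ Over.mk u).op s

theorem exists_hom_of_pres {U : C} {ι κ : Type u} [Fintype ι] [Fintype κ] {s : ι → ModSite.sect M U}
    {R : κ → ι → O.obj.obj (op U)} (hs : Gens M U s) (hR : Rels M U s R) (t : ι → ModSite.sect N U)
    (ht : ∀ r, ∑ i, R r i • t i = 0) :
    ∃ ψ : (ModSite.restr O U).obj M ⟶ (ModSite.restr O U).obj N,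
      ∀ i {V : C} (u : V ⟶ U), onSlice ψ u (Groth.Agent.ModFlat16.smap M u (s i)) = Groth.Agent.ModFlat16.smap N u (t i) := by
  classical
  let π := freeTo (N := (ModSite.restr O U).obj M) s
  let τ := freeTo (N := (ModSite.restr O U).obj N) t
  haveI : Epi π := epi_freeTo (N := (ModSite.restr O U).obj M) hs
  have hπ : ∀ (A : Over U) z, π.val.app (op A) z = ∑ i, coord z i • Groth.Agent.ModFlat16.smap M A.hom (s i) := fun A z => by
    conv_lhs => rw [← freeElt_coord z]
    refine (app_freeElt π (coord z)).trans ?_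
    simp only [π, topVal_ιFree_freeTo]
    rfl
  have hτ : ∀ (A : Over U) z, τ.val.app (op A) z = ∑ i, coord z i • Groth.Agent.ModFlat16.smap N A.hom (t i) := fun A z => by
    conv_lhs => rw [← freeElt_coord z]
    refine (app_freeElt τ (coord z)).trans ?_
    simp only [τ, topVal_ιFree_freeTo]
    rfl
  have w : kernel.ι π ≫ τ = 0 := by
    refine SheafOfModules.hom_ext (PresheafOfModules.hom_ext fun A => ModuleCat.hom_ext (LinearMap.ext fun z => ?_))
    obtain ⟨A⟩ := A
    show τ.val.app (op A) ((kernel.ι π).val.app (op A) z) = 0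
    rw [hτ]
    have h0 : π.val.app (op A) ((kernel.ι π).val.app (op A) z) = 0 :=
      congrArg (fun q : kernel π ⟶ _ => q.val.app (op A) z) (kernel.condition π)
    rw [hπ] at h0
    obtain ⟨S, hS, h⟩ := rels_apply hR A.hom _ h0
    refine eq_of_locally _ (0 : ModSite.sect N A.left) S hS fun W l hl => ?_
    obtain ⟨d, hd⟩ := h l hl
    rw [map_zero, smap_comb]
    simp only [hd, Finset.sum_smul, mul_smul, ← smap_comp]
    rw [Finset.sum_comm]
    refine Finset.sum_eq_zero fun r _ => ?_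
    rw [← Finset.smul_sum, ← smap_comb, ht, map_zero, smul_zero]
  obtain ⟨ψ, hψ⟩ := CokernelCofork.IsColimit.desc' (Abelian.epiIsCokernelOfKernel _ (kernelIsKernel π)) τ w
  replace hψ : π ≫ ψ = τ := hψ
  refine ⟨ψ, fun i V u => ?_⟩
  have h := congrArg (fun q : SheafOfModules.free ι ⟶ (ModSite.restr O U).obj N => topVal (fι i ≫ q)) hψ
  simp only [τ, π, topVal_ιFree_freeTo, ← Category.assoc] at h
  rw [topVal_comp, topVal_ιFree_freeTo] at h
  refine (PresheafOfModules.naturality_apply ψ.val (fromTop (op (Over.mk u))) (s i)).trans ?_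
  exact congrArg (fun z => ((ModSite.restr O U).obj N).val.map (fromTop (op (Over.mk u))) z) h

theorem onSlice_ext {U : C} {ι : Type u} [Fintype ι] {s : ι → ModSite.sect M U} (hs : Gens M U s) {U' : C}
    (ψ : (ModSite.restr O U').obj M ⟶ (ModSite.restr O U').obj N)
    {U'' : C} (ψ' : (ModSite.restr O U'').obj M ⟶ (ModSite.restr O U'').obj N) (a : U ⟶ U') (b : U ⟶ U'')
    (h : ∀ i, onSlice ψ a (s i) = onSlice ψ' b (s i)) {V : C} (k : V ⟶ U) (x : ModSite.sect M V) :
    onSlice ψ (k ≫ a) x = onSlice ψ' (k ≫ b) x := by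
  obtain ⟨S, hS, hx⟩ := gens_apply hs k x
  refine eq_of_locally _ _ S hS fun W l hl => ?_
  rw [← onSlice_smap, ← onSlice_smap]
  obtain ⟨c, hc⟩ := hx l hl
  rw [hc]
  refine (map_sum (ψ.val.app (op (Over.mk (l ≫ k ≫ a)))).hom _ _).trans
    (Eq.trans (Finset.sum_congr rfl fun i _ => ?_) (map_sum (ψ'.val.app (op (Over.mk (l ≫ k ≫ b)))).hom _ _).symm)
  refine ((ψ.val.app (op (Over.mk (l ≫ k ≫ a)))).hom.map_smul (c i) _).trans
    (Eq.trans (congrArg (c i • ·) ?_) ((ψ'.val.app (op (Over.mk (l ≫ k ≫ b)))).hom.map_smul (c i) _).symm)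
  show onSlice ψ (l ≫ k ≫ a) _ = onSlice ψ' (l ≫ k ≫ b) _
  rw [← Category.assoc, ← Category.assoc l k b, onSlice_smap, onSlice_smap, h i]

variable {Λ : Type u} [SmallCategory Λ] [IsFiltered Λ] {D : Λ ⥤ ModSite.Mod O} {c : Cocone D} (hc : IsColimit c)

theorem exists_upper {ι : Type*} [Finite ι] (l : ι → Λ) : ∃ k, ∀ i, Nonempty (l i ⟶ k) := by
  classical
  cases nonempty_fintype ι
  obtain ⟨k, hk⟩ := IsFiltered.sup_objs_exists (Finset.univ.image l)
  exact ⟨k, fun i => hk (Finset.mem_image_of_mem l (Finset.mem_univ i))⟩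

theorem exists_upper_maps {ι : Type*} [Finite ι] {l : Λ} (k : ι → Λ) (f : ∀ i, l ⟶ k i) :
    ∃ (m : Λ) (g : ∀ i, k i ⟶ m) (h : l ⟶ m), ∀ i, f i ≫ g i = h := by
  classical
  cases nonempty_fintype ι
  suffices H : ∀ S : Finset ι, ∃ (m : Λ) (g : ∀ i ∈ S, k i ⟶ m) (h : l ⟶ m), ∀ i (hi : i ∈ S), f i ≫ g i hi = h by
    obtain ⟨m, g, h, e⟩ := H Finset.univ
    exact ⟨m, fun i => g i (Finset.mem_univ i), h, fun i => e i _⟩
  intro S
  induction S using Finset.induction_on with
  | empty => exact ⟨l, fun i hi => absurd hi (Finset.notMem_empty i), 𝟙 l, fun i hi => absurd hi (Finset.notMem_empty i)⟩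
  | @insert j S hj ih =>
    obtain ⟨m, g, h, e⟩ := ih
    let m₁ := IsFiltered.max m (k j)
    let a := IsFiltered.coeqHom (h ≫ IsFiltered.leftToMax m (k j)) (f j ≫ IsFiltered.rightToMax m (k j))
    refine ⟨_, fun i hi => if hij : i = j then eqToHom (congrArg k hij) ≫ IsFiltered.rightToMax m (k j) ≫ a
      else g i ((Finset.mem_insert.1 hi).resolve_left hij) ≫ IsFiltered.leftToMax m (k j) ≫ a,
      h ≫ IsFiltered.leftToMax m (k j) ≫ a, fun i hi => ?_⟩
    by_cases hij : i = j
    · subst hij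
      simp only [dif_pos, eqToHom_refl, Category.id_comp]
      exact ((Category.assoc _ _ _).symm.trans (IsFiltered.coeq_condition _ _).symm).trans (Category.assoc _ _ _)
    · simp only [dif_neg hij, ← Category.assoc, e]

theorem map_app_comp {A B C' : ModSite.Mod O} (f : A ⟶ B) (g : B ⟶ C') {V : C} (x : ModSite.sect A V) :
    (f ≫ g).val.app (op V) x = g.val.app (op V) (f.val.app (op V) x) := rfl

include hc in
theorem exists_stage_sections {U : C} {ι : Type u} [Fintype ι] (z : ι → ModSite.sect c.pt U) :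
    ∃ T ∈ J U, ∀ ⦃W : C⦄ (g : W ⟶ U), T g →
      ∃ (l : Λ) (t : ι → ModSite.sect (D.obj l) W),
        ∀ i, (c.ι.app l).val.app (op W) (t i) = Groth.Agent.ModFlat16.smap c.pt g (z i) := by
  obtain ⟨T, hT, h⟩ := cov_iInter' (J := J) (fun i => exists_stage_rep_mod hc (z i))
  refine ⟨T, hT, fun W g hg => ?_⟩
  choose l t ht using fun i => h i g hg
  obtain ⟨k, hk⟩ := exists_upper l
  refine ⟨k, fun i => (D.map (hk i).some).val.app (op W) (t i), fun i => ?_⟩
  rw [← map_app_comp, c.w]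
  exact ht i

include hc in
theorem exists_stage_kills {U : C} {l : Λ} {ι : Type u} [Fintype ι] (t t' : ι → ModSite.sect (D.obj l) U)
    (h : ∀ i, (c.ι.app l).val.app (op U) (t i) = (c.ι.app l).val.app (op U) (t' i)) :
    ∃ T ∈ J U, ∀ ⦃W : C⦄ (g : W ⟶ U), T g →
      ∃ (k : Λ) (f : l ⟶ k), ∀ i, (D.map f).val.app (op W) (Groth.Agent.ModFlat16.smap (D.obj l) g (t i)) =
        (D.map f).val.app (op W) (Groth.Agent.ModFlat16.smap (D.obj l) g (t' i)) := by
  obtain ⟨T, hT, h⟩ := cov_iInter' (J := J) (fun i => exists_stage_eq_mod hc (t i) (t' i) (h i))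
  refine ⟨T, hT, fun W g hg => ?_⟩
  choose k f hf using fun i => h i g hg
  obtain ⟨m, e, f', he⟩ := exists_upper_maps k f
  refine ⟨m, f', fun i => ?_⟩
  rw [← he i, D.map_comp, map_app_comp, map_app_comp, hf]

/-- Locally factored through a stage. -/
def Factors (c : Cocone D) (φ : M ⟶ c.pt) (U : C) : Prop :=
  ∃ (l : Λ) (ψ : (ModSite.restr O U).obj M ⟶ (ModSite.restr O U).obj (D.obj l)),
    ∀ {V : C} (u : V ⟶ U) (x : ModSite.sect M V),
      (c.ι.app l).val.app (op V) (onSlice ψ u x) = φ.val.app (op V) x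

include hc in
theorem covd_factors [SheafOfModules.IsFinitePresentation (R := ModSite.ringSh O) M] (φ : M ⟶ c.pt) :
    Covd J (Factors c φ) := by
  refine (covd_hasPres (M := M)).refine' ?_
  rintro U ⟨ι, κ, hι, hκ, s, R, hs, hR⟩
  obtain ⟨T, hT, h⟩ := exists_stage_sections hc (fun i => φ.val.app (op U) (s i))
  refine bind_cover (Q := fun U' _ => Factors c φ U') T hT fun W g hg => ?_
  obtain ⟨l, t, ht⟩ := h g hg
  have hs' := gens_smap g hs
  have hR' := rels_smap g hR
  have hz : ∀ r, (c.ι.app l).val.app (op W) (∑ i, rmap O g (R r i) • t i) = (c.ι.app l).val.app (op W) 0 := fun r => by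
    rw [map_zero, app_comb]
    simp only [ht, ← app_smap]
    rw [← app_comb]
    exact (congrArg (fun z => φ.val.app (op W) z) (hR'.1 r)).trans (map_zero _)
  obtain ⟨T', hT', h'⟩ := exists_stage_kills hc (fun r => ∑ i, rmap O g (R r i) • t i) (fun _ => 0) hz
  refine ⟨T', hT', fun W' g' hg' => ?_⟩
  obtain ⟨k, f, hf⟩ := h' g' hg'
  obtain ⟨ψ, hψ⟩ := exists_hom_of_pres (gens_smap g' hs') (rels_smap g' hR')
    (fun i => (D.map f).val.app (op W') (Groth.Agent.ModFlat16.smap (D.obj l) g' (t i))) (fun r => by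
      have := hf r
      rw [map_zero, map_zero, smap_comb, app_comb] at this
      exact this)
  refine ⟨k, ψ, fun {V} u x => ?_⟩
  obtain ⟨S, hS, hx⟩ := gens_apply (gens_smap g' hs') u x
  refine eq_of_locally _ _ S hS fun V' m hm => ?_
  obtain ⟨d, hd⟩ := hx m hm
  rw [← app_smap (c.ι.app k) m, ← onSlice_smap]
  refine Eq.trans ?_ (app_smap φ m x)
  rw [hd]
  rw [app_comb]
  refine Eq.trans (congrArg (fun z => (c.ι.app k).val.app (op V') z)
    ((map_sum (ψ.val.app (op (Over.mk (m ≫ u)))).hom _ _).trans (Finset.sum_congr rfl fun i _ =>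
      ((ψ.val.app (op (Over.mk (m ≫ u)))).hom.map_smul (d i) _).trans (congrArg (d i • ·) (hψ i (m ≫ u)))))) ?_
  rw [app_comb]
  refine Finset.sum_congr rfl fun i _ => congrArg (d i • ·) ?_
  rw [app_smap, ← map_app_comp, c.w, app_smap]
  refine (congrArg (fun z => Groth.Agent.ModFlat16.smap c.pt (m ≫ u) (Groth.Agent.ModFlat16.smap c.pt g' z)) (ht i)).trans ?_
  rw [app_smap φ (m ≫ u), app_smap φ g', app_smap φ g]

include hc in
theorem covd_kills [SheafOfModules.IsFiniteType (R := ModSite.ringSh O) M] {l : Λ} (φ φ' : M ⟶ D.obj l)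
    (h : φ ≫ c.ι.app l = φ' ≫ c.ι.app l) :
    Covd J fun U => ∃ (k : Λ) (f : l ⟶ k), ∀ {V : C} (_ : V ⟶ U) (x : ModSite.sect M V),
      (φ ≫ D.map f).val.app (op V) x = (φ' ≫ D.map f).val.app (op V) x := by
  refine (covd_hasGens (M := M)).refine' ?_
  rintro U ⟨ι, hι, s, hs⟩
  obtain ⟨T, hT, hT'⟩ := exists_stage_kills hc (fun i => φ.val.app (op U) (s i)) (fun i => φ'.val.app (op U) (s i))
    (fun i => congrArg (fun q : M ⟶ c.pt => q.val.app (op U) (s i)) h)
  refine ⟨T, hT, fun W g hg => ?_⟩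
  obtain ⟨k, f, hf⟩ := hT' g hg
  refine ⟨k, f, fun {V} u x => ?_⟩
  obtain ⟨S, hS, hx⟩ := gens_apply (gens_smap g hs) u x
  refine eq_of_locally _ _ S hS fun V' m hm => ?_
  obtain ⟨d, hd⟩ := hx m hm
  rw [← app_smap, ← app_smap, hd, app_comb, app_comb]
  refine Finset.sum_congr rfl fun i _ => congrArg (d i • ·) ?_
  show (D.map f).val.app (op V') (φ.val.app (op V') _) = (D.map f).val.app (op V') (φ'.val.app (op V') _)
  rw [app_smap φ (m ≫ u), app_smap φ g, app_smap φ' (m ≫ u), app_smap φ' g, app_smap (D.map f) (m ≫ u),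
    app_smap (D.map f) (m ≫ u), hf i]

end Groth.Agent.FinPres16
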