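import Groth.Agent.Lib.FinPres16.HomLocal
import Groth.Agent.Lib.ModFlat16.Elements
import Groth.Agent.Lib.ModFlat16.Proj
import Mathlib.Algebra.Category.ModuleCat.Presheaf.Free

/-! Sections of the internal hom, on elements. -/

set_option autoImplicit false
set_option linter.style.haveILetI false
set_option linter.unusedSectionVars false
set_option backward.isDefEq.respectTransparency false
set_option backward.isDefEq.respectTransparency.types false

universe u

open CategoryTheory CategoryTheory.Limits Opposite MonoidalCategory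

noncomputable section

namespace Groth.Agent.FinPres16

open ModFlat16 Groth.Agent.KFlat.Site

variable {C : Type u} [SmallCategory C] {J : GrothendieckTopology C} {O : Sheaf J CommRingCat.{u}}
  {M N N' : ModSite.Mod O} [ModSite.HasSheafHom M]

/-- The value of a section of the internal hom at a section. -/
def hval {V : C} (z : ModSite.sect ((ModSite.sheafHom M).obj N) V) (s : ModSite.sect M V) : ModSite.sect N V :=
  ((ModSite.toPre O).map ((ModSite.sheafHomAdj M).counit.app N)).app (op V)
    ((eta ((ModSite.sheafHom M).obj N) M).app (op V) (tm z s))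

theorem hval_add {V : C} (z : ModSite.sect ((ModSite.sheafHom M).obj N) V) (s s' : ModSite.sect M V) :
    hval z (s + s') = hval z s + hval z s' := by
  rw [hval, tm_add_right, map_add, map_add]
  rfl

theorem hval_add_left {V : C} (z z' : ModSite.sect ((ModSite.sheafHom M).obj N) V) (s : ModSite.sect M V) :
    hval (z + z') s = hval z s + hval z' s := by
  rw [hval, tm_add_left, map_add, map_add]
  rfl

theorem hval_smul {V : C} (z : ModSite.sect ((ModSite.sheafHom M).obj N) V) (r : O.obj.obj (op V))
    (s : ModSite.sect M V) : hval z (r • s) = r • hval z s := by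
  let e := (eta ((ModSite.sheafHom M).obj N) M).app (op V)
  let k := ((ModSite.toPre O).map ((ModSite.sheafHomAdj M).counit.app N)).app (op V)
  have h : tm z (r • s) = r • (tm z s) := TensorProduct.tmul_smul (R := O.obj.obj (op V)) r _ _
  show k (e (tm z (r • s))) = r • k (e (tm z s))
  rw [h]
  exact ((congrArg (fun w => k w) (e.hom.map_smul r _)).trans (k.hom.map_smul r _))

theorem hval_smap {V W : C} (g : W ⟶ V) (z : ModSite.sect ((ModSite.sheafHom M).obj N) V) (s : ModSite.sect M V) :
    hval (Groth.Agent.ModFlat16.smap ((ModSite.sheafHom M).obj N) g z) (Groth.Agent.ModFlat16.smap M g s) =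
      Groth.Agent.ModFlat16.smap N g (hval z s) := by
  refine Eq.trans ?_ (PresheafOfModules.naturality_apply
    ((ModSite.toPre O).map ((ModSite.sheafHomAdj M).counit.app N)) g.op _)
  exact congrArg _ (PresheafOfModules.naturality_apply (eta ((ModSite.sheafHom M).obj N) M) g.op (tm z s))

theorem hval_map (f : N ⟶ N') {V : C} (z : ModSite.sect ((ModSite.sheafHom M).obj N) V) (s : ModSite.sect M V) :
    hval (((ModSite.sheafHom M).map f).val.app (op V) z) s = f.val.app (op V) (hval z s) := by
  have h := (ModSite.sheafHomAdj M).counit.naturality f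
  have h1 := congrArg (fun q => ((ModSite.toPre O).map q).app (op V)
    ((eta ((ModSite.sheafHom M).obj N) M).app (op V) (tm z s))) h
  refine Eq.trans ?_ h1
  exact congrArg _ ((eta_naturality ((ModSite.sheafHom M).map f) (tm z s)).trans
    (congrArg _ (pmap_tm ((ModSite.sheafHom M).map f) z s))).symm

theorem hval_homEquiv {G : ModSite.Mod O} (h : ((ModSite.tensorBi O).flip.obj M).obj G ⟶ N) {V : C}
    (a : ModSite.sect G V) (s : ModSite.sect M V) :
    hval ((((ModSite.sheafHomAdj M).homEquiv G N) h).val.app (op V) a) s =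
      ((ModSite.toPre O).map h).app (op V) ((eta G M).app (op V) (tm a s)) := by
  let h' := (ModSite.sheafHomAdj M).homEquiv G N h
  have e : ((ModSite.tensorBi O).flip.obj M).map h' ≫ (ModSite.sheafHomAdj M).counit.app N = h :=
    ((ModSite.sheafHomAdj M).homEquiv_counit (g := h')).symm.trans (Equiv.symm_apply_apply _ _)
  have h1 := congrArg (fun q => ((ModSite.toPre O).map q).app (op V) ((eta G M).app (op V) (tm a s))) e
  refine Eq.trans ?_ h1
  exact congrArg _ ((eta_naturality h' (tm a s)).trans (congrArg _ (pmap_tm h' a s))).symm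

/-- The representable presheaf of modules. -/
abbrev yMod (O : Sheaf J CommRingCat.{u}) (W : C) : ModSite.preMod O :=
  PresheafOfModules.freeObj (R := O.obj ⋙ forget₂ CommRingCat.{u} RingCat.{u}) (yoneda.obj W)

/-- Its basis elements. -/
abbrev yEl (O : Sheaf J CommRingCat.{u}) {W V : C} (u : V ⟶ W) : (yMod O W).obj (op V) := ModuleCat.freeMk u

/-- The bilinear map given by a map over the slice. -/
def pairFun {W : C} (ψ : (ModSite.restr O W).obj M ⟶ (ModSite.restr O W).obj N) (V : Cᵒᵖ)
    (p : (yMod O W).obj V) (s : ModSite.sect M V.unop) : ModSite.sect N V.unop :=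
  (show (V.unop ⟶ W) →₀ O.obj.obj V from p).sum fun u r => r • onSlice ψ u s

theorem pairFun_el {W V : C} (ψ : (ModSite.restr O W).obj M ⟶ (ModSite.restr O W).obj N) (u : V ⟶ W)
    (s : ModSite.sect M V) : pairFun ψ (op V) (yEl O u) s = onSlice ψ u s := by
  show (Finsupp.single u (1 : O.obj.obj (op V))).sum _ = _
  rw [Finsupp.sum_single_index (by exact _root_.zero_smul (O.obj.obj (op V)) _)]
  exact _root_.one_smul (O.obj.obj (op V)) _

theorem pairFun_add {W : C} (ψ : (ModSite.restr O W).obj M ⟶ (ModSite.restr O W).obj N) (V : Cᵒᵖ)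
    (p p' : (yMod O W).obj V) (s : ModSite.sect M V.unop) :
    pairFun ψ V (p + p') s = pairFun ψ V p s + pairFun ψ V p' s :=
  Finsupp.sum_add_index' (fun u => _root_.zero_smul (O.obj.obj V) _)
    (fun u r r' => _root_.add_smul (R := O.obj.obj V) r r' _)

theorem pairFun_smul {W : C} (ψ : (ModSite.restr O W).obj M ⟶ (ModSite.restr O W).obj N) (V : Cᵒᵖ)
    (a : (O.obj ⋙ forget₂ CommRingCat.{u} RingCat.{u}).obj V) (p : (yMod O W).obj V) (s : ModSite.sect M V.unop) :
    pairFun ψ V (a • p) s = a • pairFun ψ V p s := by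
  refine Eq.trans (Finsupp.sum_smul_index fun u => _root_.zero_smul (O.obj.obj V) _) ?_
  refine Eq.trans ?_ Finsupp.smul_sum.symm
  exact Finset.sum_congr rfl fun u _ => mul_smul (α := O.obj.obj V) a _ _

theorem pairFun_map_el {W : C} (ψ : (ModSite.restr O W).obj M ⟶ (ModSite.restr O W).obj N) {V V' : Cᵒᵖ}
    (g : V ⟶ V') (u : V.unop ⟶ W) (s : ModSite.sect M V.unop) :
    pairFun ψ V' ((yMod O W).map g (yEl O u)) (M.val.map g s) = N.val.map g (pairFun ψ V (yEl O u) s) := by
  refine Eq.trans (congrArg (fun q => pairFun ψ V' q (M.val.map g s))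
    (ModuleCat.freeDesc_apply _ _)) ?_
  refine (pairFun_el ψ (V := V'.unop) (g.unop ≫ u) (M.val.map g s)).trans ?_
  refine (onSlice_smap ψ u g.unop s).trans ?_
  exact congrArg (fun z => N.val.map g z) (pairFun_el ψ u s).symm

/-- The map out of `y ⊗ M` given by a map over the slice. -/
def pairing {W : C} (ψ : (ModSite.restr O W).obj M ⟶ (ModSite.restr O W).obj N) :
    yMod O W ⊗ (ModSite.toPre O).obj M ⟶ (ModSite.toPre O).obj N where
  app V := ModuleCat.MonoidalCategory.tensorLift (fun p s => pairFun ψ V p s)
    (fun p p' s => Finsupp.sum_add_index' (fun u => _root_.zero_smul (O.obj.obj V) _)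
      (fun u r r' => _root_.add_smul (R := O.obj.obj V) r r' _))
    (fun a p s => by
      refine Eq.trans (Finsupp.sum_smul_index fun u => _root_.zero_smul (O.obj.obj V) _) ?_
      refine Eq.trans ?_ Finsupp.smul_sum.symm
      exact Finset.sum_congr rfl fun u _ => mul_smul (α := O.obj.obj V) a _ _)
    (fun p s s' => by
      refine Eq.trans ?_ Finsupp.sum_add
      exact Finset.sum_congr rfl fun u _ => by
        show _ • onSlice ψ u (s + s') = _
        rw [show onSlice ψ u (s + s') = onSlice ψ u s + onSlice ψ u s' from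
          map_add (ψ.val.app (op (Over.mk u))).hom s s', smul_add])
    (fun a p s => by
      refine Eq.trans ?_ Finsupp.smul_sum.symm
      refine Finset.sum_congr rfl fun u _ => ?_
      show _ • onSlice ψ u (a • s) = a • (_ • onSlice ψ u s)
      rw [show onSlice ψ u (a • s) = a • onSlice ψ u s from (ψ.val.app (op (Over.mk u))).hom.map_smul a s,
        ← mul_smul (α := O.obj.obj V)]
      exact (congrArg (· • onSlice ψ u s) (_root_.mul_comm _ _)).trans (mul_smul (α := O.obj.obj V) a _ _))
  naturality {V V'} g := ModuleCat.MonoidalCategory.tensor_ext fun p s => by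
    show pairFun ψ V' ((yMod O W).map g p) (M.val.map g s) = N.val.map g (pairFun ψ V p s)
    induction p using Finsupp.induction_linear with
    | zero =>
      refine Eq.trans (congrArg (fun q => pairFun ψ V' q (M.val.map g s)) (map_zero ((yMod O W).map g).hom)) ?_
      exact (Finsupp.sum_zero_index).trans ((congrArg _ Finsupp.sum_zero_index).trans (map_zero (N.val.map g).hom)).symm
    | add a b ha hb =>
      refine Eq.trans (congrArg (fun q => pairFun ψ V' q (M.val.map g s)) (map_add ((yMod O W).map g).hom a b)) ?_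
      refine (pairFun_add ψ V' _ _ _).trans ((congrArg₂ (· + ·) ha hb).trans ?_)
      exact ((congrArg _ (pairFun_add ψ V a b s)).trans (map_add (N.val.map g).hom _ _)).symm
    | single u r =>
      let r' : (O.obj ⋙ forget₂ CommRingCat.{u} RingCat.{u}).obj V := r
      have e : (Finsupp.single u r : (yMod O W).obj V) = r' • yEl O u :=
        ((Finsupp.smul_single r' u (1 : (O.obj ⋙ forget₂ CommRingCat.{u} RingCat.{u}).obj V)).trans
          (congrArg (Finsupp.single u) (_root_.mul_one r'))).symm
      rw [e]
      refine Eq.trans (congrArg (fun q => pairFun ψ V' q (M.val.map g s)) ((yMod O W).map_smul g r' (yEl O u))) ?_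
      rw [pairFun_smul, pairFun_map_el]
      exact ((congrArg _ (pairFun_smul ψ V r' (yEl O u) s)).trans (N.val.map_smul g r' _)).symm

theorem hval_smul_left {V : C} (z : ModSite.sect ((ModSite.sheafHom M).obj N) V) (r : O.obj.obj (op V))
    (s : ModSite.sect M V) : hval (r • z) s = r • hval z s := by
  rw [← hval_smul]
  show hval (N := N) (M := M) _ s = _
  rw [hval, hval, tm_smul]

theorem hval_zero_left {V : C} (s : ModSite.sect M V) :
    hval (0 : ModSite.sect ((ModSite.sheafHom M).obj N) V) s = 0 := by
  have h := hval_add_left (0 : ModSite.sect ((ModSite.sheafHom M).obj N) V) 0 s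
  rwa [add_zero, eq_comm, add_eq_left] at h

/-- The sheaf represented by an object. -/
abbrev ySh (O : Sheaf J CommRingCat.{u}) (W : C) : ModSite.Mod O := (ModSite.shPre O).obj (yMod O W)

/-- Its universal section. -/
abbrev yGen (O : Sheaf J CommRingCat.{u}) {W V : C} (u : V ⟶ W) : ModSite.sect (ySh O W) V :=
  ((adj O).unit.app (yMod O W)).app (op V) (yEl O u)

theorem smap_yGen {W V : C} (u : V ⟶ W) :
    Groth.Agent.ModFlat16.smap (ySh O W) u (yGen O (𝟙 W)) = yGen O u := by
  refine (PresheafOfModules.naturality_apply ((adj O).unit.app (yMod O W)) u.op (yEl O (𝟙 W))).symm.trans ?_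
  refine congrArg _ ((ModuleCat.freeDesc_apply _ _).trans ?_)
  exact congrArg ModuleCat.freeMk (Category.comp_id u)

/-- The comparison of the two sheafified tensor products. -/
abbrev yIso (M : ModSite.Mod O) (W : C) :
    (ModSite.shPre O).obj (yMod O W ⊗ (ModSite.toPre O).obj M) ≅ ((ModSite.tensorBi O).flip.obj M).obj (ySh O W) :=
  (shUnitRightIso O ((ModSite.toPre O).obj M)).app (yMod O W)

theorem yIso_eta {W V : C} (x : (yMod O W).obj (op V)) (s : ModSite.sect M V) :
    ((ModSite.toPre O).map (yIso M W).hom).app (op V) (((adj O).unit.app (yMod O W ⊗ (ModSite.toPre O).obj M)).app (op V)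
      (x ⊗ₜ[O.obj.obj (op V)] s)) =
      (eta (ySh O W) M).app (op V) (tm (((adj O).unit.app (yMod O W)).app (op V) x) s) :=
  congrArg (fun q : yMod O W ⊗ (ModSite.toPre O).obj M ⟶
      (ModSite.toPre O).obj ((ModSite.shPre O).obj ((ModSite.toPre O).obj (ySh O W) ⊗ (ModSite.toPre O).obj M)) =>
        q.app (op V) (x ⊗ₜ[O.obj.obj (op V)] s))
    ((adj O).unit.naturality ((adj O).unit.app (yMod O W) ▷ (ModSite.toPre O).obj M)).symm

theorem exists_hval {W : C} (ψ : (ModSite.restr O W).obj M ⟶ (ModSite.restr O W).obj N) :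
    ∃ z : ModSite.sect ((ModSite.sheafHom M).obj N) W, ∀ {V : C} (u : V ⟶ W) (s : ModSite.sect M V),
      hval (Groth.Agent.ModFlat16.smap ((ModSite.sheafHom M).obj N) u z) s = onSlice ψ u s := by
  let b := ((adj O).homEquiv _ N).symm (pairing ψ)
  let h' := (yIso M W).inv ≫ b
  refine ⟨((ModSite.sheafHomAdj M).homEquiv _ N h').val.app (op W) (yGen O (𝟙 W)), fun {V} u s => ?_⟩
  rw [← app_smap, smap_yGen, hval_homEquiv]
  refine (congrArg _ (yIso_eta (yEl O u) s).symm).trans ?_
  have e : (yIso M W).hom ≫ h' = b := Iso.hom_inv_id_assoc _ _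
  refine (congrArg (fun q => ((ModSite.toPre O).map q).app (op V)
    (((adj O).unit.app (yMod O W ⊗ (ModSite.toPre O).obj M)).app (op V) (yEl O u ⊗ₜ[O.obj.obj (op V)] s))) e).trans ?_
  refine (congrArg (fun q : yMod O W ⊗ (ModSite.toPre O).obj M ⟶ (ModSite.toPre O).obj N =>
    q.app (op V) (yEl O u ⊗ₜ[O.obj.obj (op V)] s))
      (((adj O).homEquiv_unit (f := b)).symm.trans (Equiv.apply_symm_apply _ _))).trans ?_
  exact pairFun_el ψ u s

theorem hval_ext {W : C} (z z' : ModSite.sect ((ModSite.sheafHom M).obj N) W)
    (h : ∀ {V : C} (u : V ⟶ W) (s : ModSite.sect M V),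
      hval (Groth.Agent.ModFlat16.smap ((ModSite.sheafHom M).obj N) u z) s =
        hval (Groth.Agent.ModFlat16.smap ((ModSite.sheafHom M).obj N) u z') s) : z = z' := by
  let H := (ModSite.sheafHom M).obj N
  let P : ModSite.sect H W → (yMod O W ⟶ (ModSite.toPre O).obj H) := fun z =>
    PresheafOfModules.freeObjDesc
      { app := fun V => ↾fun u => H.val.map u.op z
        naturality := fun V V' g => ConcreteCategory.hom_ext _ _ fun u =>
          (Groth.Agent.ModFlat16.smap_comp (F := H) u g.unop z) }
  let f : ModSite.sect H W → (ySh O W ⟶ H) := fun z => ((adj O).homEquiv _ H).symm (P z)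
  have hf : ∀ z {V : C} (x : (yMod O W).obj (op V)),
      (f z).val.app (op V) (((adj O).unit.app (yMod O W)).app (op V) x) = (P z).app (op V) x := fun z V x =>
    congrArg (fun q : yMod O W ⟶ (ModSite.toPre O).obj H => q.app (op V) x)
      (((adj O).homEquiv_unit (f := f z)).symm.trans (Equiv.apply_symm_apply _ _))
  have hP : ∀ z {V : C} (u : V ⟶ W), (P z).app (op V) (yEl O u) = Groth.Agent.ModFlat16.smap H u z :=
    fun z V u => ModuleCat.freeDesc_apply _ _
  have key : f z = f z' := by
    apply ((ModSite.sheafHomAdj M).homEquiv _ _).symm.injective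
    rw [← cancel_epi (yIso M W).hom]
    apply ((adj O).homEquiv _ _).injective
    refine PresheafOfModules.hom_ext fun V => ModuleCat.MonoidalCategory.tensor_ext fun x s => ?_
    obtain ⟨V⟩ := V
    have e : ∀ z, (((adj O).homEquiv _ _) ((yIso M W).hom ≫
        ((ModSite.sheafHomAdj M).homEquiv _ _).symm (f z))).app (op V) (x ⊗ₜ[O.obj.obj (op V)] s) =
          hval ((P z).app (op V) x) s := fun z => by
      rw [← hf, (adj O).homEquiv_unit]
      refine Eq.trans (congrArg (fun y => ((ModSite.toPre O).map
        (((ModSite.sheafHomAdj M).homEquiv _ _).symm (f z))).app (op V) y) (yIso_eta x s)) ?_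
      have h2 := hval_homEquiv (((ModSite.sheafHomAdj M).homEquiv _ _).symm (f z))
        (((adj O).unit.app (yMod O W)).app (op V) x) s
      rw [Equiv.apply_symm_apply] at h2
      exact h2.symm
    refine (e z).trans (Eq.trans ?_ (e z').symm)
    clear e
    induction x using Finsupp.induction_linear with
    | zero =>
      exact (congrArg (fun y => hval y s) (map_zero ((P z).app (op V)).hom)).trans
        (congrArg (fun y => hval y s) (map_zero ((P z').app (op V)).hom)).symm
    | add a b ha hb =>
      refine (congrArg (fun y => hval y s) (map_add ((P z).app (op V)).hom a b)).trans ?_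
      refine Eq.trans ?_ (congrArg (fun y => hval y s) (map_add ((P z').app (op V)).hom a b)).symm
      exact (hval_add_left _ _ s).trans ((congrArg₂ (· + ·) ha hb).trans (hval_add_left _ _ s).symm)
    | single u r =>
      let r' : (O.obj ⋙ forget₂ CommRingCat.{u} RingCat.{u}).obj (op V) := r
      have er : (Finsupp.single u r : (yMod O W).obj (op V)) = r' • yEl O u :=
        ((Finsupp.smul_single r' u (1 : (O.obj ⋙ forget₂ CommRingCat.{u} RingCat.{u}).obj (op V))).trans
          (congrArg (Finsupp.single u) (_root_.mul_one r'))).symm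
      rw [er]
      refine (congrArg (fun y => hval y s) (((P z).app (op V)).hom.map_smul r' _)).trans ?_
      refine Eq.trans ?_ (congrArg (fun y => hval y s) (((P z').app (op V)).hom.map_smul r' _)).symm
      refine (hval_smul_left _ r' s).trans (Eq.trans (congrArg (r' • ·) ?_) (hval_smul_left _ r' s).symm)
      exact (congrArg (fun y => hval y s) (hP z u)).trans ((h u s).trans (congrArg (fun y => hval y s) (hP z' u)).symm)
  have h1 := congrArg (fun q : ySh O W ⟶ H => q.val.app (op W) (yGen O (𝟙 W))) key
  simp only [yGen, hf, hP, Groth.Agent.ModFlat16.smap_id] at h1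
  exact h1

end Groth.Agent.FinPres16
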