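import Groth.Agent.Lib.FinPres16.HomColim
import Groth.Agent.Lib.ModFlat16.BasisTop

set_option autoImplicit false
set_option linter.style.haveILetI false
set_option linter.unusedSectionVars false
set_option backward.isDefEq.respectTransparency false
set_option backward.isDefEq.respectTransparency.types false

universe u

open CategoryTheory CategoryTheory.Limits Opposite TopologicalSpace

noncomputable section

namespace Groth.Agent.FinPres16

open ModFlat16

variable {X : TopCat.{u}}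

/-- A family of sections gives a map out of the pieces. -/
def piecesDesc {C : Type u} [SmallCategory C] {J : GrothendieckTopology C} {𝒜 : Type u} {U : 𝒜 → C}
    (F : Sheaf J (Type u)) (s : ∀ a, F.obj.obj (op (U a))) :
    (presheafToSheaf J (Type u)).obj (pieces U) ⟶ F :=
  ((sheafificationAdjunction J (Type u)).homEquiv _ F).symm
    { app := fun V => ↾fun p => F.obj.map p.2.op (s p.1)
      naturality := fun V W m => ConcreteCategory.hom_ext _ _ fun p => by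
        show F.obj.map (m.unop ≫ p.2).op (s p.1) = F.obj.map m (F.obj.map p.2.op (s p.1))
        rw [op_comp, Functor.map_comp_apply]
        rfl }

theorem exists_piece {C : Type u} [SmallCategory C] {J : GrothendieckTopology C} {𝒜 : Type u} {U : 𝒜 → C}
    {V : C} (x : ((presheafToSheaf J (Type u)).obj (pieces U)).obj.obj (op V)) :
    ∃ T ∈ J V, ∀ ⦃W : C⦄ (m : W ⟶ V), T m → ∃ a u, Real (𝟙 _) (((presheafToSheaf J (Type u)).obj (pieces U)).obj.map m.op x) a u :=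
  exists_real (𝟙 ((presheafToSheaf J (Type u)).obj (pieces U))) x

theorem isQcObject_prod_pieces {𝒜 : Type u} [Finite 𝒜] (U : 𝒜 → Opens X)
    (h : ∀ a b, IsCompact ((U a ⊓ U b : Opens X) : Set X)) :
    CohCx.IsQcObject ((presheafToSheaf (Opens.grothendieckTopology X) (Type u)).obj (pieces U) ⨯
      (presheafToSheaf (Opens.grothendieckTopology X) (Type u)).obj (pieces U)) := by
  classical
  cases nonempty_fintype 𝒜
  let K := (presheafToSheaf (Opens.grothendieckTopology X) (Type u)).obj (pieces U)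
  intro I L f hf
  let sec : ∀ a b, K.obj.obj (op (U a ⊓ U b)) × K.obj.obj (op (U a ⊓ U b)) := fun a b =>
    ((toSheafify _ (pieces U)).app (op (U a ⊓ U b)) ⟨a, homOfLE inf_le_left⟩,
      (toSheafify _ (pieces U)).app (op (U a ⊓ U b)) ⟨b, homOfLE inf_le_right⟩)
  let z : ∀ a b, (K ⨯ K).obj.obj (op (U a ⊓ U b)) := fun a b =>
    el (K ⨯ K) (prod.lift ((el K).symm (sec a b).1) ((el K).symm (sec a b).2))
  have hz1 : ∀ a b, (prod.fst : K ⨯ K ⟶ K).hom.app (op _) (z a b) = (sec a b).1 := fun a b => by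
    rw [← el_comp, prod.lift_fst, Equiv.apply_symm_apply]
  have hz2 : ∀ a b, (prod.snd : K ⨯ K ⟶ K).hom.app (op _) (z a b) = (sec a b).2 := fun a b => by
    rw [← el_comp, prod.lift_snd, Equiv.apply_symm_apply]
  choose T hT hT' using fun p : 𝒜 × 𝒜 => hf _ (z p.1 p.2)
  have hpt : ∀ (p : 𝒜 × 𝒜) (x : X), x ∈ U p.1 ⊓ U p.2 → ∃ (W : Opens X) (g : W ⟶ U p.1 ⊓ U p.2), T p g ∧ x ∈ W :=
    fun p x hx => hT p x hx
  choose W g hg hxW using hpt
  have hcpt : ∀ p : 𝒜 × 𝒜, ∃ t : Finset I, ∀ x ∈ U p.1 ⊓ U p.2, ∃ (V : Opens X) (n : V ⟶ U p.1 ⊓ U p.2),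
      x ∈ V ∧ ∃ (i : t) (w : (L i.1).obj.obj (op V)), (f i.1).hom.app (op V) w = (K ⨯ K).obj.map n.op (z p.1 p.2) := by
    intro p
    obtain ⟨s, hs⟩ := (h p.1 p.2).elim_finite_subcover
      (fun x : {x // x ∈ U p.1 ⊓ U p.2} => (W p x.1 x.2 : Set X)) (fun x => (W p x.1 x.2).2)
      (fun x hx => Set.mem_iUnion.2 ⟨⟨x, hx⟩, hxW p x hx⟩)
    choose i w hw using fun x : {x // x ∈ U p.1 ⊓ U p.2} => hT' p _ (g p x.1 x.2) (hg p x.1 x.2)
    refine ⟨s.image i, fun x hx => ?_⟩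
    obtain ⟨y, hy⟩ := Set.mem_iUnion.1 (hs hx)
    obtain ⟨hys, hxy⟩ := Set.mem_iUnion.1 hy
    exact ⟨_, g p y.1 y.2, hxy, ⟨i y, Finset.mem_image_of_mem i hys⟩, w y, hw y⟩
  choose t ht using hcpt
  refine ⟨Finset.univ.biUnion t, fun V q => ?_⟩
  obtain ⟨T₁, hT₁, h₁⟩ := exists_piece ((prod.fst : K ⨯ K ⟶ K).hom.app (op V) q)
  refine bind_cover T₁ hT₁ fun W₁ m₁ hm₁ => ?_
  obtain ⟨a, u, hu⟩ := h₁ m₁ hm₁
  obtain ⟨T₂, hT₂, h₂⟩ := exists_piece (K.obj.map m₁.op ((prod.snd : K ⨯ K ⟶ K).hom.app (op V) q))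
  refine bind_cover (Q := fun W' m' => ∃ (i : (Finset.univ.biUnion t : Finset I)) (w : (L i.1).obj.obj (op W')),
    (f i.1).hom.app (op W') w = (K ⨯ K).obj.map (m' ≫ m₁).op q) T₂ hT₂ fun W₂ m₂ hm₂ => ?_
  obtain ⟨b, v, hv⟩ := h₂ m₂ hm₂
  let n : W₂ ⟶ U a ⊓ U b := homOfLE (le_inf (leOfHom (m₂ ≫ u)) (leOfHom v))
  have hq : (K ⨯ K).obj.map (m₂ ≫ m₁).op q = (K ⨯ K).obj.map n.op (z a b) := by
    have hu' := hu.res (𝟙 _) m₂
    unfold Real at hu' hv
    refine prod_sections_ext ?_ ?_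
    · rw [NatTrans.naturality_apply (prod.fst : K ⨯ K ⟶ K).hom, NatTrans.naturality_apply (prod.fst : K ⨯ K ⟶ K).hom,
        hz1, op_comp, Functor.map_comp_apply]
      refine hu'.trans ?_
      refine Eq.trans ?_ (NatTrans.naturality_apply (toSheafify _ (pieces U)) n.op
        (⟨a, homOfLE inf_le_left⟩ : (pieces U).obj (op (U a ⊓ U b))))
      exact congrArg _ (congrArg (Sigma.mk (β := fun c => W₂ ⟶ U c) a) (Subsingleton.elim _ _))
    · rw [NatTrans.naturality_apply (prod.snd : K ⨯ K ⟶ K).hom, NatTrans.naturality_apply (prod.snd : K ⨯ K ⟶ K).hom,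
        hz2, op_comp, Functor.map_comp_apply]
      refine hv.trans ?_
      refine Eq.trans ?_ (NatTrans.naturality_apply (toSheafify _ (pieces U)) n.op
        (⟨b, homOfLE inf_le_right⟩ : (pieces U).obj (op (U a ⊓ U b))))
      exact congrArg _ (congrArg (Sigma.mk (β := fun c => W₂ ⟶ U c) b) (Subsingleton.elim _ _))
  obtain ⟨S, hS, hS'⟩ := exists_cover_le (V := W₂) (fun V' => ∃ (n' : V' ⟶ U a ⊓ U b) (i : t (a, b))
      (w : (L i.1).obj.obj (op V')), (f i.1).hom.app (op V') w = (K ⨯ K).obj.map n'.op (z a b))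
    (fun x hx => by
      obtain ⟨V', n', hxV', i, w, hw⟩ := ht (a, b) x (leOfHom n hx)
      exact ⟨V', hxV', n', i, w, hw⟩)
  refine ⟨S, hS, fun W₃ m₃ hm₃ => ?_⟩
  obtain ⟨V', hWV, n', i, w, hw⟩ := hS' m₃ hm₃
  refine ⟨⟨i.1, Finset.mem_biUnion.2 ⟨(a, b), Finset.mem_univ _, i.2⟩⟩, (L i.1).obj.map (homOfLE hWV).op w, ?_⟩
  rw [Category.assoc, op_comp (f := m₃), Functor.map_comp_apply, hq, NatTrans.naturality_apply (f i.1).hom, hw,
    ← Functor.map_comp_apply, ← Functor.map_comp_apply]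
  rfl

theorem preservesColimit_coyoneda_space {O : TopCat.Sheaf CommRingCat.{u} X}
    (hX : ∀ (ι : Type u) (V : ι → Opens X), iSup V = ⊤ →
      ∃ (𝒜 : Type u) (_ : Finite 𝒜) (U : 𝒜 → Opens X), iSup U = ⊤ ∧ (∀ j, ∃ i, U j ≤ V i) ∧
        ∀ j j', IsCompact ((U j ⊓ U j' : Opens X) : Set X))
    {Λ : Type u} [SmallCategory Λ] [IsFiltered Λ] (D : Λ ⥤ ModSite.Mod O) (G : ModSite.Mod O)
    [SheafOfModules.IsFinitePresentation (R := ModSite.ringSh O) G] :
    PreservesColimit D (coyoneda.obj (op G)) := by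
  refine preservesColimit_coyoneda {K | CohCx.IsQcObject (K ⨯ K)} (fun F hF => ?_) (fun K hK => hK) G D
  haveI : Sheaf.IsLocallySurjective (terminal.from F) := (Sheaf.isLocallySurjective_iff_epi' _ _).2 inferInstance
  let e : (⊤_ (Sheaf (Opens.grothendieckTopology X) (Type u))).obj.obj (op ⊤) :=
    el _ (terminal.from ((presheafToSheaf (Opens.grothendieckTopology X) (Type u)).obj (yoneda.obj ⊤)))
  have hx : ∀ x : X, ∃ V : Opens X, x ∈ V ∧ Nonempty (F.obj.obj (op V)) := fun x => by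
    obtain ⟨V, g, hg, hxV⟩ := Presheaf.imageSieve_mem (Opens.grothendieckTopology X) (terminal.from F).hom (U := op ⊤) e x trivial
    exact ⟨V, hxV, ⟨hg.choose⟩⟩
  choose V hxV hV using hx
  obtain ⟨𝒜, h𝒜, U, hU, hle, hc⟩ := hX X V (eq_top_iff.2 fun x _ => Opens.mem_iSup.2 ⟨x, hxV x⟩)
  choose i hi using hle
  refine ⟨_, isQcObject_prod_pieces U hc, ?_, ⟨piecesDesc F fun a => F.obj.map (homOfLE (hi a)).op (hV (i a)).some⟩⟩
  refine (Sheaf.isLocallySurjective_iff_epi' _ _).1 ⟨fun {W} y => ?_⟩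
  intro x _
  obtain ⟨a, ha⟩ := Opens.mem_iSup.1 (hU.ge (trivial : x ∈ (⊤ : Opens X)))
  refine ⟨W ⊓ U a, homOfLE inf_le_left, ⟨(toSheafify _ (pieces U)).app (op (W ⊓ U a)) ⟨a, homOfLE inf_le_right⟩,
    terminal_sections_eq _ _⟩, ?_, ha⟩
  assumption

end Groth.Agent.FinPres16
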