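import Groth.Agent.Lib.FinPres16.Basic
import Groth.Agent.Lib.FinPres16.Colim
import Groth.Agent.Lib.ModFlat16.Basis
import Mathlib.CategoryTheory.Comma.StructuredArrow.Basic

/-! Every module is a filtered colimit of modules presented by finite sums of `j_!O`. -/

set_option autoImplicit false
set_option linter.style.haveILetI false
set_option linter.unusedSectionVars false
set_option backward.isDefEq.respectTransparency false
set_option backward.isDefEq.respectTransparency.types false

universe u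

open CategoryTheory CategoryTheory.Limits Opposite

noncomputable section

namespace Groth.Agent.FinPres16

open ModFlat16 (smap app_smap freeOnHom freeOnHom_comp eq_of_locally mono_of_injective epi_of_local_preimages bind_cover)

variable {C : Type u} [SmallCategory C] {J : GrothendieckTopology C} {O : Sheaf J CommRingCat.{u}} {B : Set C}

theorem FG.zero {M : ModSite.Mod O} (h : IsZero M) : FG O B M :=
  ⟨_, Sigma.desc fun i => i.elim, bfree_sigma (κ := PEmpty.{1}) (fun i => i.elim) (fun i => i.elim),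
    ⟨fun _ _ _ => h.eq_of_src _ _⟩⟩

theorem fp_freeOn {W : C} (hW : W ∈ B) : FP O B (ModSite.freeOn O W) := by
  let e : ModSite.freeOn O W ≅ ∐ fun _ : PUnit.{1} => ModSite.freeOn O W :=
    { hom := Sigma.ι (fun _ : PUnit.{1} => ModSite.freeOn O W) PUnit.unit
      inv := Sigma.desc fun _ => 𝟙 _
      hom_inv_id := Sigma.ι_desc _ _
      inv_hom_id := Sigma.hom_ext _ _ fun b => by simp }
  haveI : IsIso e.inv := Iso.isIso_inv e
  exact ⟨_, e.inv, bfree_sigma (fun _ : PUnit.{1} => W) (fun _ => hW), inferInstance, FG.zero (isZero_kernel_of_mono e.inv)⟩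

theorem FP.of_fin_iso {M : ModSite.Mod O} (h : FP O B M) :
    ∃ (m n : ℕ) (V : Fin m → C) (U : Fin n → C)
      (ψ : (∐ fun j => ModSite.freeOn O (V j)) ⟶ ∐ fun i => ModSite.freeOn O (U i)),
      (∀ j, V j ∈ B) ∧ (∀ i, U i ∈ B) ∧ Nonempty (M ≅ cokernel ψ) := fin_of_fp h

theorem FP.biprod {M N : ModSite.Mod O} (hM : FP O B M) (hN : FP O B N) : FP O B (M ⊞ N) := by
  obtain ⟨P, π, hP, hπ, hK⟩ := hM
  obtain ⟨Q, q, hQ, hq, hL⟩ := hN
  let θ : kernel π ⊞ kernel q ⟶ kernel (biprod.map π q) :=
    kernel.lift _ (biprod.map (kernel.ι π) (kernel.ι q)) (by apply biprod.hom_ext <;> simp)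
  haveI : Epi θ := (epi_iff_surjective_up_to_refinements θ).2 fun T y => by
    have h1 := y ≫= kernel.condition (biprod.map π q) =≫ biprod.fst
    have h2 := y ≫= kernel.condition (biprod.map π q) =≫ biprod.snd
    simp only [Category.assoc, biprod.map_fst, biprod.map_snd, comp_zero, zero_comp] at h1 h2
    refine ⟨T, 𝟙 T, inferInstance,
      biprod.lift (kernel.lift π (y ≫ kernel.ι _ ≫ biprod.fst) (by simpa using h1))
        (kernel.lift q (y ≫ kernel.ι _ ≫ biprod.snd) (by simpa using h2)), ?_⟩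
    apply equalizer.hom_ext
    apply biprod.hom_ext <;> simp [θ]
  exact ⟨_, biprod.map π q, hP.biprod hQ, inferInstance, (hK.biprod hL).of_epi θ⟩

variable (O B) in
/-- The data of a presentation. -/
def PresData : Type u :=
  Σ' (m n : ℕ) (V : Fin m → {U : C // U ∈ B}) (U : Fin n → {U : C // U ∈ B}),
    (∐ fun j => ModSite.freeOn O (V j).1) ⟶ ∐ fun i => ModSite.freeOn O (U i).1

/-- The presented module. -/
abbrev PresData.mod (d : PresData O B) : ModSite.Mod O := cokernel d.2.2.2.2

theorem PresData.fp (d : PresData O B) : FP O B d.mod :=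
  fp_of_fin ⟨_, _, _, _, d.2.2.2.2, fun j => (d.2.2.1 j).2, fun i => (d.2.2.2.1 i).2, ⟨Iso.refl _⟩⟩

theorem exists_presData {M : ModSite.Mod O} (h : FP O B M) : ∃ d : PresData O B, Nonempty (M ≅ d.mod) := by
  obtain ⟨m, n, V, U, ψ, hV, hU, he⟩ := fin_of_fp h
  exact ⟨⟨m, n, fun j => ⟨V j, hV j⟩, fun i => ⟨U i, hU i⟩, ψ⟩, he⟩

variable (B) in
/-- The presented modules over a module. -/
def Idx (F : ModSite.Mod O) : Type u := Σ d : PresData O B, d.mod ⟶ F

variable {F : ModSite.Mod O}

/-- The underlying object over the module. -/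
def Idx.toArrow (i : Idx B F) : CostructuredArrow (𝟭 (ModSite.Mod O)) F := CostructuredArrow.mk (S := 𝟭 _) i.2

instance : SmallCategory (Idx B F) := inferInstanceAs (Category (InducedCategory _ (Idx.toArrow (B := B) (F := F))))

/-- The forgetful functor. -/
def idxDiagram (B : Set C) (F : ModSite.Mod O) : Idx B F ⥤ ModSite.Mod O :=
  inducedFunctor (Idx.toArrow (B := B) (F := F)) ⋙ CostructuredArrow.proj _ _

/-- The maps to the module. -/
def idxCocone (B : Set C) (F : ModSite.Mod O) : Cocone (idxDiagram B F) where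
  pt := F
  ι :=
    { app := fun i => i.2
      naturality := fun i j f => by
        refine Eq.trans ?_ (Category.comp_id _).symm
        exact CostructuredArrow.w ((inducedFunctor (Idx.toArrow (B := B) (F := F))).map f) }

theorem exists_idx {M : ModSite.Mod O} (hM : FP O B M) (f : M ⟶ F) :
    ∃ (i : Idx B F) (e : M ≅ i.1.mod), e.hom ≫ i.2 = f := by
  obtain ⟨d, ⟨e⟩⟩ := exists_presData hM
  exact ⟨⟨d, e.inv ≫ f⟩, e, e.hom_inv_id_assoc f⟩

/-- A map of presented modules over the module gives a map of indices. -/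
def idxHom {i j : Idx B F} (g : i.1.mod ⟶ j.1.mod) (h : g ≫ j.2 = i.2) : i ⟶ j :=
  InducedCategory.homMk (CostructuredArrow.homMk g h)

variable (hB₁ : ∀ X : C, ∃ (κ : Type u) (Y : κ → C) (g : ∀ k, Y k ⟶ X), Sieve.ofArrows Y g ∈ J X ∧ ∀ k, Y k ∈ B)
  (hB₂ : ∀ U ∈ B, CohCx.IsQcObject ((presheafToSheaf J (Type u)).obj (yoneda.obj U)))

include hB₁ hB₂ in
theorem isFiltered_idx : IsFiltered (Idx B F) where
  nonempty := ⟨⟨⟨0, 0, fun i => i.elim0, fun i => i.elim0, 0⟩, 0⟩⟩
  cocone_objs i j := by
    obtain ⟨k, e, he⟩ := exists_idx (i.1.fp.biprod j.1.fp) (biprod.desc i.2 j.2)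
    exact ⟨k, idxHom (biprod.inl ≫ e.hom) (by rw [Category.assoc, he, biprod.inl_desc]),
      idxHom (biprod.inr ≫ e.hom) (by rw [Category.assoc, he, biprod.inr_desc]), trivial⟩
  cocone_maps i j f g := by
    let a : i.1.mod ⟶ j.1.mod := (idxDiagram B F).map f
    let b : i.1.mod ⟶ j.1.mod := (idxDiagram B F).map g
    have ha : a ≫ j.2 = i.2 := ((idxCocone B F).w f)
    have hb : b ≫ j.2 = i.2 := ((idxCocone B F).w g)
    have hd : (a - b) ≫ j.2 = 0 := by rw [Preadditive.sub_comp, ha, hb, sub_self]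
    obtain ⟨k, e, he⟩ := exists_idx (fp_of_fin (fpFin_cokernel hB₁ hB₂ (a - b) i.1.fp j.1.fp)) (cokernel.desc _ j.2 hd)
    refine ⟨k, idxHom (cokernel.π (a - b) ≫ e.hom) (by rw [Category.assoc, he, cokernel.π_desc]), ?_⟩
    refine InducedCategory.hom_ext (CostructuredArrow.hom_ext _ _ ?_)
    show a ≫ cokernel.π (a - b) ≫ e.hom = b ≫ cokernel.π (a - b) ≫ e.hom
    rw [← sub_eq_zero, ← Preadditive.sub_comp, ← Category.assoc, cokernel.condition, zero_comp]

include hB₁ hB₂ in
theorem isColimit_idxCocone : Nonempty (IsColimit (idxCocone B F)) := by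
  haveI := isFiltered_idx (F := F) hB₁ hB₂
  choose κ' Y' g' hcov hY' using hB₁
  let D := idxDiagram B F
  let φ := colimit.desc D (idxCocone B F)
  haveI : Epi φ := epi_of_local_preimages φ fun V x => by
    refine ⟨_, hcov V, fun W g hg => ?_⟩
    obtain ⟨Y, a, _, ⟨k⟩, rfl⟩ := hg
    let x' := smap F (g' V k) x
    obtain ⟨i, e, he⟩ := exists_idx (fp_freeOn (O := O) (hY' V k)) ((freeOnHom O (Y' V k) F).symm x')
    refine ⟨smap (colimit D) a ((colimit.ι D i).val.app (op (Y' V k)) (e.hom.val.app (op (Y' V k)) (gen (Y' V k)))), ?_⟩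
    refine (app_smap φ a _).trans ((congrArg (smap F a) ?_).trans (ModFlat16.smap_comp (g' V k) a x).symm)
    refine (congrArg (fun q : i.1.mod ⟶ F => q.val.app (op (Y' V k)) (e.hom.val.app (op (Y' V k)) (gen (Y' V k))))
      (colimit.ι_desc (idxCocone B F) i)).trans ?_
    refine (congrArg (fun q : ModSite.freeOn O (Y' V k) ⟶ F => q.val.app (op (Y' V k)) (gen (Y' V k))) he).trans ?_
    rw [app_gen, Equiv.apply_symm_apply]
    rfl
  haveI : Mono φ := mono_of_injective φ fun V a b hab => sub_eq_zero.1 (by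
    have h0 : φ.val.app (op V) (a - b) = 0 := by rw [map_sub]; exact sub_eq_zero.2 hab
    obtain ⟨T₁, hT₁, h₁⟩ := exists_stage_rep_mod (colimit.isColimit D) (a - b)
    obtain ⟨T, hT, h⟩ := bind_cover (Q := fun W g => smap (colimit D) g (a - b) = 0) T₁ hT₁ fun W g hg => by
      obtain ⟨i, t, ht⟩ := h₁ g hg
      have ht0 : i.2.val.app (op W) t = 0 := by
        refine Eq.trans ?_ ((congrArg (fun w => φ.val.app (op W) w) ht).trans ?_)
        · exact (congrArg (fun q : i.1.mod ⟶ F => q.val.app (op W) t) (colimit.ι_desc (idxCocone B F) i)).symm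
        · refine (app_smap φ g (a - b)).trans ?_
          rw [h0, map_zero]
      refine ⟨_, hcov W, fun W' m hm => ?_⟩
      obtain ⟨Y, c, _, ⟨k⟩, rfl⟩ := hm
      let hh := (freeOnHom O (Y' W k) i.1.mod).symm (smap i.1.mod (g' W k) t)
      have hhf : hh ≫ i.2 = 0 := by
        apply (freeOnHom O (Y' W k) F).injective
        rw [freeOnHom_comp, Equiv.apply_symm_apply, app_smap, ht0, map_zero]
        have h0 := freeOnHom_comp O (0 : ModSite.freeOn O (Y' W k) ⟶ F) (0 : F ⟶ F)
        rw [comp_zero] at h0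
        exact h0.symm
      obtain ⟨j, e, he⟩ := exists_idx (fp_of_fin (fpFin_cokernel (fun X => ⟨_, _, _, hcov X, hY' X⟩) hB₂ hh
        (fp_freeOn (hY' W k)) i.1.fp)) (cokernel.desc hh i.2 hhf)
      let p : i ⟶ j := idxHom (cokernel.π hh ≫ e.hom) (by rw [Category.assoc, he, cokernel.π_desc])
      have hz : (D.map p).val.app (op (Y' W k)) (smap i.1.mod (g' W k) t) = 0 := by
        have e1 := congrArg (fun q : ModSite.freeOn O (Y' W k) ⟶ j.1.mod => freeOnHom O (Y' W k) j.1.mod q)
          (show hh ≫ cokernel.π hh ≫ e.hom = 0 by rw [← Category.assoc, cokernel.condition, zero_comp])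
        simp only [freeOnHom_comp, hh, Equiv.apply_symm_apply] at e1
        refine Eq.trans e1 ?_
        have h0 := freeOnHom_comp O (0 : ModSite.freeOn O (Y' W k) ⟶ j.1.mod) (0 : j.1.mod ⟶ j.1.mod)
        rw [comp_zero] at h0
        exact h0
      show smap (colimit D) ((c ≫ g' W k) ≫ g) (a - b) = 0
      rw [ModFlat16.smap_comp, ModFlat16.smap_comp]
      refine (congrArg (fun w => smap (colimit D) c (smap (colimit D) (g' W k) w)) ht).symm.trans ?_
      refine (congrArg (smap (colimit D) c) ((app_smap (colimit.ι D i) (g' W k) t).symm.trans ?_)).trans (map_zero _)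
      rw [← colimit.w D p]
      exact (congrArg (fun w => (colimit.ι D j).val.app (op (Y' W k)) w) hz).trans
        (map_zero ((colimit.ι D j).val.app (op (Y' W k))).hom)
    exact eq_of_locally _ 0 T hT fun W g hg => (h g hg).trans (map_zero _).symm)
  haveI : IsIso ((colimit.isColimit D).desc (idxCocone B F)) := isIso_of_mono_of_epi φ
  exact ⟨IsColimit.ofPointIso (colimit.isColimit D)⟩

end Groth.Agent.FinPres16
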