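import Groth.Agent.Lib.FinPres16.Basic
import Groth.Agent.Lib.ModFlat16.Basis
import Mathlib.CategoryTheory.Sites.IsSheafFor
import Mathlib.Algebra.Homology.ShortComplex.ShortExact

/-! Kernels and extensions of modules presented by finite sums of `j_!O`. -/

set_option autoImplicit false
set_option linter.style.haveILetI false
set_option linter.unusedSectionVars false
set_option backward.isDefEq.respectTransparency false
set_option backward.isDefEq.respectTransparency.types false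

universe u

open CategoryTheory CategoryTheory.Limits Opposite

noncomputable section

namespace Groth.Agent.FinPres16

open ModFlat16 (freeOnHom freeOnHom_comp)

variable {C : Type u} [SmallCategory C] {J : GrothendieckTopology C} {O : Sheaf J CommRingCat.{u}} {B : Set C}

theorem epi_kernel_restrict {A M N : ModSite.Mod O} (f : A ⟶ M) [Epi f] (g : M ⟶ N) :
    Epi (kernel.lift g (kernel.ι (f ≫ g) ≫ f) (by simp)) := by
  refine (epi_iff_surjective_up_to_refinements _).2 fun T y => ?_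
  obtain ⟨T', t, ht, x, hx⟩ := surjective_up_to_refinements_of_epi f (y ≫ kernel.ι g)
  refine ⟨T', t, ht, kernel.lift (f ≫ g) x (by rw [← Category.assoc, ← hx]; simp), ?_⟩
  apply equalizer.hom_ext
  simpa using hx

variable (hB₁ : ∀ X : C, ∃ (κ : Type u) (Y : κ → C) (g : ∀ k, Y k ⟶ X), Sieve.ofArrows Y g ∈ J X ∧ ∀ k, Y k ∈ B)
  (hB₂ : ∀ U ∈ B, CohCx.IsQcObject ((presheafToSheaf J (Type u)).obj (yoneda.obj U)))

section Kernel

variable (hker : ∀ (m n : ℕ) (V : Fin m → C) (U : Fin n → C)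
      (φ : (∐ fun j => ModSite.freeOn O (V j)) ⟶ ∐ fun i => ModSite.freeOn O (U i)),
      (∀ j, V j ∈ B) → (∀ i, U i ∈ B) → FPFin O B (kernel φ))

include hker in
theorem fg_kernel_bfree {P Q : ModSite.Mod O} (hP : BFree O B P) (hQ : BFree O B Q) (φ : P ⟶ Q) :
    FG O B (kernel φ) := by
  obtain ⟨m, V, hV, ⟨e⟩⟩ := hP.exists_fin
  obtain ⟨n, U, hU, ⟨e'⟩⟩ := hQ.exists_fin
  exact (fp_of_fin (hker m n V U (e.inv ≫ φ ≫ e'.hom) hV hU)).fg.of_iso
    (kernel.mapIso φ (e.inv ≫ φ ≫ e'.hom) e e' (by simp)).symm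

include hB₁ hB₂ hker in
theorem fg_kernel_to_fp {Q M : ModSite.Mod O} (hQ : BFree O B Q) (hM : FP O B M) (m : Q ⟶ M) :
    FG O B (kernel m) := by
  obtain ⟨κ, hκ, U, hU, ⟨e⟩⟩ := hQ
  obtain ⟨PM, π, hPM, hπ, R₀, r, hR₀, hr⟩ := hM
  obtain ⟨R, g, hg⟩ := exists_lift_refinement hB₁ hB₂ hU π (e.inv ≫ m)
  haveI := R.epi (O := O)
  let πQ := R.π (O := O) ≫ e.inv
  let φ := biprod.desc g (-(r ≫ kernel.ι π))
  have w : (kernel.ι φ ≫ biprod.fst) ≫ πQ ≫ m = 0 := by
    have h := kernel.condition φ =≫ π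
    simp only [φ, biprod.desc_eq, Preadditive.comp_add, Preadditive.add_comp, Category.assoc,
      Preadditive.comp_neg, Preadditive.neg_comp, kernel.condition, comp_zero, neg_zero, add_zero,
      zero_comp, hg] at h
    simpa [πQ] using h
  haveI : Epi (kernel.lift (πQ ≫ m) (kernel.ι φ ≫ biprod.fst) w) := by
    refine (epi_iff_surjective_up_to_refinements _).2 fun T y => ?_
    let z := kernel.lift π (y ≫ kernel.ι (πQ ≫ m) ≫ g) (by
      rw [show (y ≫ kernel.ι (πQ ≫ m) ≫ g) ≫ π = y ≫ kernel.ι (πQ ≫ m) ≫ (πQ ≫ m) by simp [πQ, hg],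
        kernel.condition, comp_zero])
    obtain ⟨T', t, ht, x, hx⟩ := surjective_up_to_refinements_of_epi r z
    refine ⟨T', t, ht, kernel.lift φ (biprod.lift (t ≫ y ≫ kernel.ι (πQ ≫ m)) x) ?_, ?_⟩
    · simp only [φ, biprod.lift_desc, Category.assoc, Preadditive.comp_neg, ← sub_eq_add_neg, sub_eq_zero]
      have := hx =≫ kernel.ι π
      simpa [z] using this
    · apply equalizer.hom_ext
      simp
  haveI := epi_kernel_restrict πQ m
  exact ((fg_kernel_bfree hker (R.bfree.biprod hR₀) hPM φ).of_epi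
    (kernel.lift (πQ ≫ m) (kernel.ι φ ≫ biprod.fst) w)).of_epi
      (kernel.lift m (kernel.ι (πQ ≫ m) ≫ πQ) _)

include hB₁ hB₂ hker in
theorem fpFin_kernel {M N : ModSite.Mod O} (α : M ⟶ N) (hM : FP O B M) (hN : FP O B N) :
    FPFin O B (kernel α) := by
  obtain ⟨P, π, hP, hπ, -⟩ := id hM
  obtain ⟨Q', q, hQ', hq⟩ := fg_kernel_to_fp hB₁ hB₂ hker hP hN (π ≫ α)
  haveI := epi_kernel_restrict π α
  let s : Q' ⟶ kernel α := q ≫ kernel.lift α (kernel.ι (π ≫ α) ≫ π) (by simp)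
  have hs : FG O B (kernel (s ≫ kernel.ι α)) :=
    fg_kernel_to_fp hB₁ hB₂ hker hQ' hM (s ≫ kernel.ι α)
  exact fin_of_fp ⟨Q', s, hQ', inferInstance, hs.of_iso (kernelCompMono s (kernel.ι α))⟩

end Kernel

section Extension

theorem freeMap_comp {V W U : C} (a : V ⟶ W) (b : W ⟶ U) :
    freeMap (O := O) a ≫ freeMap b = freeMap (a ≫ b) := by
  apply (freeOnHom O V _).injective
  rw [freeOnHom_freeMap, freeMap, freeMap, Equiv.apply_symm_apply, Equiv.apply_symm_apply, ← ModFlat16.smap_comp]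

theorem exists_glue (N : ModSite.Mod O) {U : C} {ι : Type} (Y : ι → C) (b : ∀ i, Y i ⟶ U)
    (hb : Sieve.ofArrows Y b ∈ J U) (s : ∀ i, ModSite.sect N (Y i))
    (hs : ∀ (i j : ι) (V : C) (a : V ⟶ Y i) (a' : V ⟶ Y j), a ≫ b i = a' ≫ b j →
      ModFlat16.smap N a (s i) = ModFlat16.smap N a' (s j)) :
    ∃ t, ∀ i, ModFlat16.smap N (b i) t = s i := by
  let F := (sheafCompose J (forget AddCommGrpCat.{u})).obj (ModSite.toAb N)
  have h : Presieve.IsSheafFor F.obj (Presieve.ofArrows Y b) := by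
    rw [Presieve.isSheafFor_iff_generate]
    exact (isSheaf_iff_isSheaf_of_type J F.obj).1 F.property _ hb
  obtain ⟨t, ht, -⟩ := (Presieve.isSheafFor_arrows_iff _ _).1 h s hs
  exact ⟨t, ht⟩

variable [HasPullbacks C]
  (hB₃ : ∀ (U U₁ U₂ : C) (f₁ : U₁ ⟶ U) (f₂ : U₂ ⟶ U), U ∈ B → U₁ ∈ B → U₂ ∈ B →
      CohCx.IsQcObject ((presheafToSheaf J (Type u)).obj (yoneda.obj (pullback f₁ f₂))))

variable {κ : Type} [Finite κ] {U : κ → C} (R : Refinement (J := J) (B := B) U)

/-- The inclusion of a piece of a refinement. -/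
abbrev Refinement.inc (k : κ) (i : R.idx k) : ModSite.freeOn O (R.Y k i) ⟶ R.src :=
  Sigma.ι (fun q : Σ k, R.idx k => ModSite.freeOn O (R.Y q.1 q.2)) ⟨k, i⟩

theorem inc_π (k : κ) (i : R.idx k) :
    R.inc (O := O) k i ≫ R.π = freeMap (R.b k i) ≫ Sigma.ι (fun k => ModSite.freeOn O (U k)) k :=
  Sigma.ι_desc _ _

/-- A finite cover of the overlaps. -/
structure Overlap where
  idx : ∀ k, R.idx k → R.idx k → Type
  fin : ∀ k i j, Finite (idx k i j)
  Z : ∀ k i j, idx k i j → C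
  mem : ∀ k i j m, Z k i j m ∈ B
  c : ∀ k i j m, Z k i j m ⟶ pullback (R.b k i) (R.b k j)
  cover : ∀ k i j, Sieve.ofArrows (Z k i j) (c k i j) ∈ J (pullback (R.b k i) (R.b k j))

variable {R} (Q : Overlap R)

/-- The indices of the overlaps. -/
abbrev Overlap.index : Type := Σ k, Σ i : R.idx k, Σ j : R.idx k, Q.idx k i j

/-- The modules of the overlaps. -/
abbrev Overlap.obj (p : Q.index) : ModSite.Mod O := ModSite.freeOn O (Q.Z p.1 p.2.1 p.2.2.1 p.2.2.2)

/-- The relation of an overlap. -/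
abbrev Overlap.rel (p : Q.index) : Q.obj (O := O) p ⟶ R.src :=
  freeMap (Q.c _ _ _ p.2.2.2 ≫ pullback.fst _ _) ≫ R.inc p.1 p.2.1 -
    freeMap (Q.c _ _ _ p.2.2.2 ≫ pullback.snd _ _) ≫ R.inc p.1 p.2.2.1

theorem rel_π (p : Q.index) : Q.rel (O := O) p ≫ R.π = 0 := by
  rw [Preadditive.sub_comp, Category.assoc, Category.assoc, inc_π, inc_π, ← Category.assoc, ← Category.assoc,
    freeMap_comp, freeMap_comp, Category.assoc, Category.assoc, pullback.condition, sub_self]

theorem Overlap.exists_desc {N : ModSite.Mod O} (h : R.src ⟶ N) (hh : ∀ p, Q.rel p ≫ h = 0) :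
    ∃ h', R.π ≫ h' = h := by
  haveI := R.fin
  have hglue : ∀ k, ∃ t, ∀ i, ModFlat16.smap N (R.b k i) t = freeOnHom O (R.Y k i) N (R.inc k i ≫ h) := fun k => by
    refine exists_glue N (R.Y k) (R.b k) (R.cover k) _ fun i j V a a' e => ?_
    refine ModFlat16.eq_of_locally _ _ _ (J.pullback_stable (pullback.lift a a' e) (Q.cover k i j)) fun W l hl => ?_
    obtain ⟨_, m, _, ⟨p⟩, hm⟩ := hl
    have h0 := hh ⟨k, i, j, p⟩
    rw [Preadditive.sub_comp, Category.assoc, Category.assoc, sub_eq_zero] at h0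
    have h1 := congrArg (freeOnHom O _ N) h0
    rw [freeOnHom_freeMap, freeOnHom_freeMap] at h1
    rw [← ModFlat16.smap_comp, ← ModFlat16.smap_comp,
      show l ≫ a = m ≫ Q.c k i j p ≫ pullback.fst _ _ by rw [reassoc_of% hm, pullback.lift_fst],
      show l ≫ a' = m ≫ Q.c k i j p ≫ pullback.snd _ _ by rw [reassoc_of% hm, pullback.lift_snd],
      ModFlat16.smap_comp, h1, ← ModFlat16.smap_comp]
  choose t ht using hglue
  refine ⟨Sigma.desc fun k => (freeOnHom O (U k) N).symm (t k), Sigma.hom_ext _ _ fun q => ?_⟩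
  obtain ⟨k, i⟩ := q
  show R.inc k i ≫ R.π ≫ _ = R.inc k i ≫ h
  apply (freeOnHom O _ N).injective
  rw [← Category.assoc, inc_π, Category.assoc, Sigma.ι_desc, freeOnHom_freeMap, Equiv.apply_symm_apply]
  exact ht k i

include Q in
theorem Overlap.fg_kernel : FG O B (kernel (R.π (O := O))) := by
  haveI := R.fin
  haveI := Q.fin
  have w : Sigma.desc (Q.rel (O := O)) ≫ R.π = 0 := Sigma.hom_ext _ _ fun p => by
    rw [← Category.assoc, Sigma.ι_desc, rel_π, comp_zero]
  haveI := R.epi (O := O)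
  have hcoker : IsColimit (CokernelCofork.ofπ R.π w) :=
    CokernelCofork.IsColimit.ofπ' R.π w fun {N} h hh => Classical.indefiniteDescription _
      (Q.exists_desc h fun p => by
        have := Sigma.ι (Q.obj (O := O)) p ≫= hh
        rwa [← Category.assoc, Sigma.ι_desc, comp_zero] at this)
  haveI : Epi (kernel.lift R.π _ w) :=
    (ShortComplex.exact_of_g_is_cokernel (ShortComplex.mk _ R.π w) hcoker).epi_kernelLift
  exact (bfree_sigma (O := O) _ fun p : Q.index => Q.mem _ _ _ p.2.2.2).fg.of_epi (kernel.lift R.π _ w)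

include hB₁ hB₂ hB₃ in
theorem fg_kernel_refinement (hU : ∀ k, U k ∈ B) (R : Refinement (J := J) (B := B) U) :
    FG O B (kernel (R.π (O := O))) := by
  choose idx hfin Z c hZ _ hcov using fun k (i j : R.idx k) =>
    exists_finite_B_cover hB₁ (hB₃ (U k) _ _ (R.b k i) (R.b k j) (hU k) (R.mem _ _) (R.mem _ _)) (J.top_mem _)
  exact Overlap.fg_kernel ⟨idx, hfin, Z, hZ, c, hcov⟩

include hB₁ hB₂ hB₃ in
theorem fpFin_extension (S : ShortComplex (ModSite.Mod O)) (hS : S.ShortExact) (h₁ : FP O B S.X₁)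
    (h₃ : FP O B S.X₃) : FPFin O B S.X₂ := by
  obtain ⟨P₁, π₁, hP₁, hπ₁, hK₁⟩ := h₁
  obtain ⟨P₃, π₃, ⟨κ, hκ, U, hU, ⟨e⟩⟩, hπ₃, hK₃⟩ := h₃
  haveI := hS.epi_g
  haveI := hS.mono_f
  obtain ⟨R, g, hg⟩ := exists_lift_refinement hB₁ hB₂ hU S.g (e.inv ≫ π₃)
  haveI := R.epi (O := O)
  have hK : FG O B (kernel (g ≫ S.g)) :=
    (FG.kernel_comp hB₁ hB₂ (R.π (O := O)) (e.inv ≫ π₃) (fg_kernel_refinement hB₁ hB₂ hB₃ hU R)
      (hK₃.of_iso (kernelIsIsoComp e.inv π₃).symm)).of_iso (kernelIsoOfEq hg).symm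
  have hdescK : FG O B (kernel (biprod.desc S.f g)) := by
    obtain ⟨x, hx⟩ := KernelFork.IsLimit.lift' hS.fIsKernel (kernel.ι (g ≫ S.g) ≫ g)
      (by rw [Category.assoc, kernel.condition])
    replace hx : x ≫ S.f = kernel.ι (g ≫ S.g) ≫ g := hx
    let θ : kernel (g ≫ S.g) ⟶ kernel (biprod.desc S.f g) :=
      kernel.lift _ (biprod.lift (-x) (kernel.ι _)) (by simp [biprod.lift_desc, hx])
    haveI : Epi θ := (epi_iff_surjective_up_to_refinements θ).2 fun T y => by
      have hy : (y ≫ kernel.ι _ ≫ biprod.fst) ≫ S.f + (y ≫ kernel.ι _ ≫ biprod.snd) ≫ g = 0 := by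
        have := y ≫= kernel.condition (biprod.desc S.f g)
        simpa [biprod.desc_eq] using this
      refine ⟨T, 𝟙 T, inferInstance, kernel.lift _ (y ≫ kernel.ι _ ≫ biprod.snd) ?_, ?_⟩
      · have := hy =≫ S.g
        simpa using this
      · apply equalizer.hom_ext
        apply biprod.hom_ext
        · rw [← cancel_mono S.f]
          simp [θ, hx]
          exact eq_neg_of_add_eq_zero_left (by simpa [Category.assoc] using hy)
        · simp [θ]
    exact hK.of_epi θ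
  have hmapK : FG O B (kernel (biprod.map π₁ (𝟙 (R.src (O := O))))) := by
    let θ : kernel π₁ ⟶ kernel (biprod.map π₁ (𝟙 (R.src (O := O)))) :=
      kernel.lift _ (kernel.ι π₁ ≫ biprod.inl) (by simp)
    haveI : Epi θ := (epi_iff_surjective_up_to_refinements θ).2 fun T y => by
      have h1 := y ≫= kernel.condition (biprod.map π₁ (𝟙 (R.src (O := O)))) =≫ biprod.snd
      simp only [Category.assoc, biprod.map_snd, Category.comp_id, comp_zero, zero_comp] at h1
      refine ⟨T, 𝟙 T, inferInstance, kernel.lift _ (y ≫ kernel.ι _ ≫ biprod.fst) ?_, ?_⟩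
      · have := y ≫= kernel.condition (biprod.map π₁ (𝟙 (R.src (O := O)))) =≫ biprod.fst
        simp only [Category.assoc, biprod.map_fst, comp_zero, zero_comp] at this
        simpa only [Category.assoc] using this
      · apply equalizer.hom_ext
        apply biprod.hom_ext
        · simp [θ]
        · simpa [θ] using h1
    exact hK₁.of_epi θ
  haveI : Epi (biprod.desc S.f g) := Preadditive.epi_of_cancel_zero _ fun {Z} h hh => by
    have h1 : S.f ≫ h = 0 := by simpa using biprod.inl ≫= hh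
    have h2 : g ≫ h = 0 := by simpa using biprod.inr ≫= hh
    obtain ⟨h', rfl⟩ := CokernelCofork.IsColimit.desc' hS.gIsCokernel h h1
    simp only [Cofork.π_ofπ] at h2 ⊢
    rw [← Category.assoc, hg] at h2
    rw [(cancel_epi (R.π (O := O) ≫ e.inv ≫ π₃)).1 (show (R.π ≫ e.inv ≫ π₃) ≫ h' = _ ≫ 0 by rw [comp_zero]; exact h2),
      comp_zero]
  exact fin_of_fp ⟨P₁ ⊞ R.src, biprod.map π₁ (𝟙 (R.src (O := O))) ≫ biprod.desc S.f g, hP₁.biprod R.bfree,
    inferInstance, FG.kernel_comp hB₁ hB₂ _ _ hmapK hdescK⟩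

end Extension

end Groth.Agent.FinPres16
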