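import Groth.Prelude
import Mathlib.CategoryTheory.Sites.LocallyBijective

/-! Quasi-compact objects: the criterion on sieves. -/

set_option autoImplicit false

universe u

open CategoryTheory CategoryTheory.Limits Opposite

noncomputable section

namespace Groth.Agent.FinPres16

variable {C : Type u} [SmallCategory C] {J : GrothendieckTopology C}

/-- The map of sheaves attached to an arrow. -/
abbrev hSh (J : GrothendieckTopology C) {W U : C} (l : W ⟶ U) :
    (presheafToSheaf J (Type u)).obj (yoneda.obj W) ⟶ (presheafToSheaf J (Type u)).obj (yoneda.obj U) :=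
  (presheafToSheaf J (Type u)).map (yoneda.map l)

theorem hSh_eta {W U V : C} (l : W ⟶ U) (m : V ⟶ W) :
    (hSh J l).hom.app (op V) ((toSheafify J (yoneda.obj W)).app (op V) m) =
      (toSheafify J (yoneda.obj U)).app (op V) (m ≫ l) :=
  (congrArg (fun t : yoneda.obj W ⟶ sheafify J (yoneda.obj U) => t.app (op V) m)
    (toSheafify_naturality J (yoneda.map l))).symm

theorem exists_finite_cover_of_isQcObject {U : C}
    (hU : CohCx.IsQcObject ((presheafToSheaf J (Type u)).obj (yoneda.obj U))) {S : Sieve U} (hS : S ∈ J U) :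
    ∃ (κ : Type u) (_ : Fintype κ) (W : κ → C) (l : ∀ k, W k ⟶ U), (∀ k, S (l k)) ∧ Sieve.ofArrows W l ∈ J U := by
  classical
  let I := {q : Σ W : C, (W ⟶ U) // S q.2}
  let η := toSheafify J (yoneda.obj U)
  have hjs : CohCx.JointlySurjective (fun i : I => hSh J i.1.2) := by
    intro V s
    refine ⟨_, J.bind_covering (Presheaf.imageSieve_mem J η s)
      (fun V' g hg => J.pullback_stable (Presheaf.localPreimage η s g hg) hS), ?_⟩
    rintro V'' _ ⟨V', g', g, hg, hg', rfl⟩
    replace hg' : S (g' ≫ Presheaf.localPreimage η s g hg) := hg'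
    let i : I := ⟨⟨V'', g' ≫ Presheaf.localPreimage η s g hg⟩, hg'⟩
    refine ⟨i, (toSheafify J (yoneda.obj i.1.1)).app (op V'') (𝟙 V''), ?_⟩
    refine (hSh_eta i.1.2 (𝟙 V'')).trans ?_
    rw [op_comp, Functor.map_comp_apply, ← Presheaf.app_localPreimage η s g hg]
    refine Eq.trans ?_ (NatTrans.naturality_apply η g'.op (Presheaf.localPreimage η s g hg))
    exact congrArg (η.app (op V'')) (Category.id_comp _)
  obtain ⟨t, ht⟩ := hU I _ (fun i : I => hSh J i.1.2) hjs
  refine ⟨t, inferInstance, fun i => i.1.1.1, fun i => i.1.1.2, fun i => i.1.2, ?_⟩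
  obtain ⟨T, hT, hT'⟩ := ht U (η.app (op U) (𝟙 U))
  refine J.transitive hT _ fun V g hg => ?_
  obtain ⟨i, x, hx⟩ := hT' V g hg
  have hx' : (hSh J i.1.1.2).hom.app (op V) x = η.app (op V) g := by
    refine hx.trans ((NatTrans.naturality_apply η g.op (𝟙 U)).symm.trans ?_)
    exact congrArg (η.app (op V)) (Category.comp_id g)
  refine J.transitive (Presheaf.imageSieve_mem J (toSheafify J (yoneda.obj i.1.1.1)) x) _ fun V' g' hg' => ?_
  let m := Presheaf.localPreimage (toSheafify J (yoneda.obj i.1.1.1)) x g' hg'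
  have he : η.app (op V') (m ≫ i.1.1.2) = η.app (op V') (g' ≫ g) := by
    refine (hSh_eta i.1.1.2 m).symm.trans ?_
    rw [Presheaf.app_localPreimage]
    refine (NatTrans.naturality_apply (hSh J i.1.1.2).hom g'.op x).trans ?_
    rw [hx']
    exact (NatTrans.naturality_apply η g'.op g).symm
  refine J.superset_covering ?_
    (Presheaf.equalizerSieve_mem (D := Type u) J η (X := op V')
      (m ≫ i.1.1.2 : (yoneda.obj U).obj (op V')) (g' ≫ g : (yoneda.obj U).obj (op V')) he)
  intro V'' g'' hg''
  have e : g'' ≫ m ≫ i.1.1.2 = g'' ≫ g' ≫ g := hg''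
  show Sieve.ofArrows _ _ ((g'' ≫ g') ≫ g)
  rw [Category.assoc, ← e, ← Category.assoc]
  exact Sieve.downward_closed _ (Sieve.ofArrows_mk _ _ i) _

end Groth.Agent.FinPres16
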